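import Groth.Agent.GenRdCons.CompDims
import Groth.Agent.QCoh.FT
import Groth.Agent.QCoh.Support
import Groth.Agent.S6285

/-!
# The support of a module of finite presentation is locally constructible
-/

set_option autoImplicit false
set_option linter.style.haveILetI false
set_option linter.unusedSectionVars false

universe u

open CategoryTheory AlgebraicGeometry Topology

namespace Groth.Agent.GenRdCons

variable {X : Scheme.{u}} {F : X.Modules}

theorem isLocallyConstructible_support (hF : CohB1.IsFP F) : IsLocallyConstructible (CohB1.support F) := by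
  have hM := QCoh.isQCoh_of_isFP hF
  intro x
  obtain ⟨U, hU, hxU, -⟩ := exists_isAffineOpen_mem_and_subset (U := (⊤ : X.Opens)) (x := x) trivial
  haveI := QCoh.finitePresentation_of_isFP hF hU
  have hT : IsConstructible (Module.support Γ(X, U) Γ(F, U)) :=
    isConstructible_compl.1 ((Groth.Agent.S6285.result Γ(X, U) Γ(F, U)).2.isConstructible
      (Groth.Agent.S6285.result Γ(X, U) Γ(F, U)).1.isOpen_compl)
  refine ⟨U, U.2.mem_nhds hxU, U.2, ?_⟩
  have hf : IsOpenEmbedding (fun z : ↥(U : Set X) => hU.primeIdealOf ⟨z.1, z.2⟩) :=
    (Scheme.homeoOfIso hU.isoSpec).isOpenEmbedding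
  refine Eq.subst (motive := IsConstructible) (Set.ext fun z => ?_) (hT.preimage_of_isOpenEmbedding hf)
  exact QCoh.mem_moduleSupport_iff hM hU z.2

end Groth.Agent.GenRdCons
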