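import Groth.Agent.GenRdCons.DepthAlong
import Groth.Agent.AssPtX.Noeth
import Groth.Prelude.Def_MoreMor

/-!
# Constructible loci on the base cut out by the associated points of the fibre modules
-/

set_option autoImplicit false
set_option linter.style.haveILetI false
set_option linter.unusedSectionVars false
set_option linter.deprecated false
set_option backward.isDefEq.respectTransparency false
set_option backward.isDefEq.respectTransparency.types false

universe u

open CategoryTheory AlgebraicGeometry Topology IsLocalRing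
open Groth.Agent.AssDimLoci (Gen fdepth Fib)

namespace Groth.Agent.GenRdCons

theorem isAssociatedPrime_maximal_congr {L L' : Type u} [CommRing L] [IsLocalRing L] [CommRing L'] [IsLocalRing L']
    {M M' : Type u} [AddCommGroup M] [Module L M] [AddCommGroup M'] [Module L' M'] (σ : L' →+* L)
    (hσ : Function.Surjective σ) (e : M' ≃+ M) (he : ∀ (r : L') (x : M'), e (r • x) = σ r • e x) :
    IsAssociatedPrime (maximalIdeal L') M' ↔ IsAssociatedPrime (maximalIdeal L) M := by
  have hm : (maximalIdeal L).comap σ = maximalIdeal L' := by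
    haveI : ((maximalIdeal L).comap σ).IsMaximal := Ideal.comap_isMaximal_of_surjective σ hσ
    exact IsLocalRing.eq_maximalIdeal inferInstance
  have hc : ∀ x : M', (Submodule.colon (⊥ : Submodule L M) {e x}).comap σ = Submodule.colon ⊥ {x} := fun x => by
    ext r
    rw [Ideal.mem_comap, Submodule.mem_colon_singleton, Submodule.mem_colon_singleton, Submodule.mem_bot,
      Submodule.mem_bot, ← he, map_eq_zero_iff e e.injective]
  constructor
  · rintro ⟨-, x, hx⟩
    refine ⟨(maximalIdeal.isMaximal L).isPrime, e x, Ideal.comap_injective_of_surjective σ hσ ?_⟩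
    rw [Ideal.comap_radical, hc, hm]
    exact hx
  · rintro ⟨-, y, hy⟩
    obtain ⟨x, rfl⟩ := e.surjective y
    refine ⟨(maximalIdeal.isMaximal L').isPrime, x, ?_⟩
    rw [← hc, ← Ideal.comap_radical, ← hm, hy]

/-- A locally constructible set containing the generic point of the base contains a neighbourhood of it. -/
theorem exists_opens_subset_of_generic {T : Scheme.{u}} [IsIntegral T] {C : Set T} (hC : IsLocallyConstructible C)
    (h : genericPoint T ∈ C) : ∃ U : T.Opens, genericPoint T ∈ U ∧ (U : Set T) ⊆ C := by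
  obtain ⟨W, hWsub, hW, hηW⟩ := mem_nhds_iff.1 (FibDim.mem_nhds_of_generizations hC (y := genericPoint T)
    fun t ht => (ht.antisymm ((genericPoint_spec T).specializes (Set.mem_univ _))).eq.symm ▸ h)
  exact ⟨⟨W, hW⟩, hηW, hWsub⟩

variable {X S : Scheme.{u}} (f : X ⟶ S) (F : X.Modules)

theorem mem_relAss_iff_fib (s : S) (w : ↥(f.fiber s)) :
    f.fiberι s w ∈ MoreMor.relAss f F ↔ w ∈ AssSch.Ass (Fib f F s) := by
  let ι := f.fiberι s
  let O := X.presheaf.stalk (ι w)
  let σ : O →+* (f.fiber s).presheaf.stalk w := (ι.stalkMap w).hom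
  letI : Algebra O ((f.fiber s).presheaf.stalk w) := σ.toAlgebra
  have hσ : Function.Surjective σ := ι.stalkMap_surjective w
  let J : Ideal O := Codepth5.fibIdeal f (ι w)
  have hJ : RingHom.ker σ = J := FlatDvr.ker_stalkMap_fiberι f w
  let e₀ : ((Scheme.Modules.pullback ι).obj F).presheaf.stalk w ≃ₗ[(f.fiber s).presheaf.stalk w]
      TensorProduct O ((f.fiber s).presheaf.stalk w) (F.presheaf.stalk (ι w)) :=
    ((KFlatLib.stalkPullbackIso ι w).app F).toLinearEquiv
  let e₁ : (O ⧸ J) ≃ₗ[O] (f.fiber s).presheaf.stalk w :=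
    (Submodule.quotEquivOfEq J (LinearMap.ker (Algebra.linearMap O ((f.fiber s).presheaf.stalk w))) hJ.symm) ≪≫ₗ
      (Algebra.linearMap O ((f.fiber s).presheaf.stalk w)).quotKerEquivOfSurjective hσ
  let e₂ := (TensorProduct.quotTensorEquivQuotSMul (F.presheaf.stalk (ι w)) J).symm ≪≫ₗ
    TensorProduct.congr e₁ (LinearEquiv.refl O (F.presheaf.stalk (ι w)))
  refine isAssociatedPrime_maximal_congr σ hσ (e₂.toAddEquiv.trans e₀.symm.toAddEquiv) (fun r x => ?_)
  show e₀.symm (e₂ (r • x)) = σ r • e₀.symm (e₂ x)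
  rw [e₂.map_smul, show r • e₂ x = σ r • e₂ x from (algebraMap_smul ((f.fiber s).presheaf.stalk w) r (e₂ x)).symm,
    e₀.symm.map_smul]

variable [LocallyOfFinitePresentation f] (hF : CohB1.IsFP F)
include hF

theorem mem_relAss_iff (x : X) : x ∈ MoreMor.relAss f F ↔ fdepth f F x = 0 := by
  have h := mem_relAss_iff_fib f F (f x) (f.asFiber x)
  rw [f.fiberι_asFiber] at h
  exact h.trans (mem_ass_asFiber_iff f F hF x)

/-- The sets testing for a larger associated point above a point of relative degree `d`. -/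
def embP (d : ℕ) : Set X := GenA f F fun m => if d + 1 ≤ m then Set.univ else ∅

theorem isLocallyConstructible_embP (d : ℕ) : IsLocallyConstructible (embP f F d) :=
  isLocallyConstructible_genA f F hF fun m => by split_ifs <;> simp

omit hF in
theorem mem_embP_iff {x : X} {d : ℕ} :
    x ∈ embP f F d ↔ ∃ t, d < FibDim.rd f t ∧ Gen f x t ∧ fdepth f F t = 0 := by
  show (∃ t, t ∈ (if d + 1 ≤ FibDim.rd f t then (Set.univ : Set X) else ∅) ∧ _) ↔ _
  refine exists_congr fun t => and_congr_left fun _ => ?_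
  split_ifs with h
  · exact iff_of_true trivial (by omega)
  · exact iff_of_false (fun h' => h') (by omega)

theorem noEmbedded_iff_notMem (s : S) :
    AssSch.NoEmbedded (Fib f F s) ↔ s ∉ f '' GenA f F (embP f F) := by
  constructor
  · intro h hs
    obtain ⟨z, hz, hP⟩ := (mem_image_genA_fib_iff f F hF _ s).1 hs
    obtain ⟨t, hlt, hg, hd⟩ := (mem_embP_iff f F).1 hP
    obtain ⟨z', rfl⟩ := AssDimLoci.exists_fiberι_eq f hg
    obtain rfl := h z hz z' ((AssDimLoci.mem_ass_iff f F hF s z').2 hd) ((AssDimLoci.gen_fiberι_iff f s z z').1 hg)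
    omega
  · intro h z hz z' hz' hsp
    by_contra hne
    refine h ((mem_image_genA_fib_iff f F hF _ s).2 ⟨z, hz, (mem_embP_iff f F).2
      ⟨f.fiberι s z', ?_, (AssDimLoci.gen_fiberι_iff f s z z').2 hsp, (AssDimLoci.mem_ass_iff f F hF s z').1 hz'⟩⟩)
    have hg := (AssDimLoci.gen_fiberι_iff f s z z').2 hsp
    exact FibDim.rd_lt f hg.1 (fun e => hne ((f.fiberι s).isEmbedding.injective e).symm) hg.2

theorem isLocallyConstructible_noEmbedded [QuasiCompact f] :
    IsLocallyConstructible {s : S | AssSch.NoEmbedded (Fib f F s)} := by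
  convert isLocallyConstructible_compl' (isLocallyConstructible_image_genA f F hF (P := embP f F)
    (isLocallyConstructible_embP f F hF)) using 1
  ext s
  exact noEmbedded_iff_notMem f F hF s

theorem isLocallyConstructible_assDims [QuasiCompact f] (Φ : Finset ℕ) :
    IsLocallyConstructible {s : S |
      (fun z : ↥(f.fiber s) => topologicalKrullDim ↥(closure ({z} : Set ↥(f.fiber s)))) ''
          AssSch.Ass (Fib f F s) = (fun n : ℕ => (n : WithBot ℕ∞)) '' (Φ : Set ℕ)} := by
  classical
  let A : ℕ → ℕ → Set X := fun n m => if m = n then Set.univ else ∅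
  let N : ℕ → Set X := fun m => if m ∈ Φ then ∅ else Set.univ
  have hA : IsLocallyConstructible (⋂ n : {n // n ∈ Φ}, f '' GenA f F (A n)) :=
    IsLocallyConstructible.iInter fun n => isLocallyConstructible_image_genA f F hF fun m => by
      show IsLocallyConstructible (if m = n.1 then (Set.univ : Set X) else ∅)
      split_ifs <;> simp
  convert hA.inter (isLocallyConstructible_compl' (isLocallyConstructible_image_genA f F hF (P := N) fun m => by
      show IsLocallyConstructible (if m ∈ Φ then (∅ : Set X) else Set.univ)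
      split_ifs <;> simp)) using 1
  ext s
  have hd : ∀ (z : ↥(f.fiber s)) (n : ℕ),
      topologicalKrullDim ↥(closure ({z} : Set ↥(f.fiber s))) = (n : WithBot ℕ∞) ↔ FibDim.rd f (f.fiberι s z) = n := fun z n => by
    rw [AssDimLoci.dim_closure]
    exact ⟨fun h => by exact_mod_cast h, fun h => by rw [h]; rfl⟩
  rw [Set.mem_inter_iff, Set.mem_iInter, Set.mem_compl_iff]
  constructor
  · intro h
    refine ⟨fun n => (mem_image_genA_fib_iff f F hF _ s).2 ?_, fun hs => ?_⟩
    · obtain ⟨z, hz, he⟩ : ((n : ℕ) : WithBot ℕ∞) ∈ _ '' _ := h.ge ⟨n.1, n.2, rfl⟩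
      refine ⟨z, hz, ?_⟩
      show _ ∈ if FibDim.rd f (f.fiberι s z) = n.1 then (Set.univ : Set X) else ∅
      rw [if_pos ((hd z n).1 he)]
      trivial
    · obtain ⟨z, hz, hP⟩ := (mem_image_genA_fib_iff f F hF _ s).1 hs
      obtain ⟨n, hn, he⟩ := h.le ⟨z, hz, rfl⟩
      change _ ∈ if FibDim.rd f (f.fiberι s z) ∈ Φ then (∅ : Set X) else Set.univ at hP
      rw [if_pos ((hd z n).1 he.symm ▸ (Finset.mem_coe.1 hn))] at hP
      exact hP
  · rintro ⟨h1, h2⟩
    refine Set.Subset.antisymm ?_ ?_
    · rintro _ ⟨z, hz, rfl⟩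
      refine ⟨FibDim.rd f (f.fiberι s z), ?_, ((hd z _).2 rfl).symm⟩
      by_contra hn
      refine h2 ((mem_image_genA_fib_iff f F hF _ s).2 ⟨z, hz, ?_⟩)
      show _ ∈ if FibDim.rd f (f.fiberι s z) ∈ Φ then (∅ : Set X) else Set.univ
      rw [if_neg (fun h => hn (Finset.mem_coe.2 h))]
      trivial
    · rintro _ ⟨n, hn, rfl⟩
      obtain ⟨z, hz, hP⟩ := (mem_image_genA_fib_iff f F hF _ s).1 (h1 ⟨n, hn⟩)
      refine ⟨z, hz, (hd z n).2 ?_⟩
      by_contra hne
      change _ ∈ if FibDim.rd f (f.fiberι s z) = n then (Set.univ : Set X) else ∅ at hP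
      rw [if_neg hne] at hP
      exact hP

theorem isLocallyConstructible_relAss_subset [QuasiCompact f] [QuasiSeparated f] (U : X.Opens)
    [QuasiCompact (U.ι ≫ f)] :
    IsLocallyConstructible {y : S | ∀ x ∈ MoreMor.relAss f F, f x = y → x ∈ U} := by
  haveI : QuasiCompact U.ι := QuasiCompact.of_comp U.ι f
  have hU : IsLocallyConstructible (U : Set X) :=
    (IsRetrocompact_iff_isSpectralMap_subtypeVal.2 U.ι.isSpectralMap).isLocallyConstructible U.2
  convert isLocallyConstructible_compl' (isLocallyConstructible_image_genA f F hF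
    (P := fun _ => (U : Set X)ᶜ) fun _ => isLocallyConstructible_compl' hU) using 1
  ext y
  rw [Set.mem_compl_iff, mem_image_genA_iff]
  exact ⟨fun h ⟨t, he, hU', hd⟩ => hU' (h t ((mem_relAss_iff f F hF t).2 hd) he),
    fun h x hx he => by_contra fun hxU => h ⟨x, he, hxU, (mem_relAss_iff f F hF x).1 hx⟩⟩

end Groth.Agent.GenRdCons
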