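import Groth.Agent.AssDimLoci.Topo
import Groth.Agent.ConsPropLib.FibreTop
import Groth.Agent.FibDim.FlatBC

/-!
# Points having a generization of large relative degree in a constructible set, inside their fibre
-/

set_option autoImplicit false
set_option linter.style.haveILetI false
set_option linter.unusedSectionVars false
set_option linter.deprecated false

universe u

open CategoryTheory CategoryTheory.Limits AlgebraicGeometry Topology
open Groth.Agent.AssDimLoci (Gen exists_maximal)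

namespace Groth.Agent.GenRdCons

variable {X Y : Scheme.{u}}

/-- The points with a generization in their fibre which lies in `E` and has relative degree at least `m`. -/
def B (f : X ⟶ Y) (E : Set X) (m : ℕ) : Set X :=
  {x | ∃ t ∈ E, Gen f x t ∧ m ≤ FibDim.rd f t}

/-- Stability under base change. -/
theorem B_baseChange {X' Y' : Scheme.{u}} {f : X ⟶ Y} {p : X' ⟶ X} {q : X' ⟶ Y'} {g : Y' ⟶ Y}
    [LocallyOfFiniteType f] (h : IsPullback p q f g) (E : Set X) (m : ℕ) :
    B q (p ⁻¹' E) m = p ⁻¹' B f E m := by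
  haveI : LocallyOfFiniteType q := MorphismProperty.of_isPullback (P := @LocallyOfFiniteType) h ‹_›
  have hfib : ∀ a b : X', q a = q b → f (p a) = f (p b) := fun a b e => by
    show (p ≫ f) a = (p ≫ f) b
    rw [h.w, Scheme.Hom.comp_apply, Scheme.Hom.comp_apply, e]
  ext x'
  constructor
  · rintro ⟨t', ht', ⟨hs, hq⟩, hm⟩
    exact ⟨p t', ht', ⟨hs.map p.continuous, hfib _ _ hq⟩, hm.trans (FibDim.rd_baseChange_le h t')⟩
  · rintro ⟨t, ht, ⟨hs, hf⟩, hm⟩
    obtain ⟨w, hwS, hg, hmax, -⟩ := exists_maximal q (S := p ⁻¹' closure {t})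
      (show x' ∈ p ⁻¹' closure {t} from hs.mem_closure)
    have h' : IsPullback (q.fiberι (q w) ≫ p) (q.fiberToSpecResidueField (q w)) f
        (Y'.fromSpecResidueField (q w) ≫ g) :=
      (IsPullback.of_hasPullback q (Y'.fromSpecResidueField (q w))).paste_horiz h
    have htw : t ⤳ p w := specializes_iff_mem_closure.2 hwS
    obtain ⟨a, ha, hpa⟩ := FibDim.exists_generization_lift h'.flip (x' := q.asFiber w) (b := t)
      (by show t ⤳ p (q.fiberι (q w) (q.asFiber w)); rw [Scheme.Hom.fiberι_asFiber]; exact htw)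
      (by show f t = f (p (q.fiberι (q w) (q.asFiber w)))
          rw [Scheme.Hom.fiberι_asFiber, hf, hfib w x' hg.2])
    have hpw : p w = t := by
      have hl : q.fiberι (q w) a ⤳ w := by
        have := ha.map (q.fiberι (q w)).continuous
        rwa [Scheme.Hom.fiberι_asFiber] at this
      have hpa' : p (q.fiberι (q w) a) = t := hpa
      rw [← hmax (q.fiberι (q w) a) (show p _ ∈ closure {t} from hpa'.symm ▸ subset_closure rfl)
        ⟨hl, FibDim.fiber_apply_fiberι q a⟩]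
      exact hpa'
    refine ⟨w, show p w ∈ E from hpw.symm ▸ ht, hg, ?_⟩
    rw [FibDim.rd_baseChange_eq_of_minimal h w fun v hv hpv hqv =>
      hmax v (show p v ∈ closure {t} from hpv.symm ▸ hpw.symm ▸ subset_closure rfl) ⟨hv, hqv⟩, hpw]
    exact hm

variable (f : X ⟶ Y) [LocallyOfFiniteType f]

/-- Stability under open restriction of the source. -/
theorem B_opens (U : X.Opens) (E : Set X) (m : ℕ) : B (U.ι ≫ f) (U.ι ⁻¹' E) m = U.ι ⁻¹' B f E m := by
  ext x
  constructor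
  · rintro ⟨t, ht, ⟨hs, hf⟩, hm⟩
    exact ⟨U.ι t, ht, ⟨hs.map U.ι.continuous, by simpa only [Scheme.Hom.comp_apply] using hf⟩,
      (FibDim.rd_opens f U t) ▸ hm⟩
  · rintro ⟨t, ht, ⟨hs, hf⟩, hm⟩
    obtain ⟨t', rfl⟩ : t ∈ Set.range U.ι := by
      rw [Scheme.Opens.range_ι]
      exact hs.mem_open U.2 (U.range_ι.le ⟨x, rfl⟩)
    exact ⟨t', ht, ⟨U.ι.isEmbedding.isInducing.specializes_iff.1 hs, by simpa only [Scheme.Hom.comp_apply] using hf⟩,
      (FibDim.rd_opens f U t').symm ▸ hm⟩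

section Generic

variable [IsIntegral Y] [IsNoetherian Y] [QuasiCompact f] [IsNoetherian X]

/-- Near the generic fibre the points of `E` of large relative degree specialize from the generic fibre. -/
theorem exists_nhd_K {E : Set X} (hE : IsConstructible E) (m : ℕ) :
    ∃ (W : Set Y) (K : Set X), IsOpen W ∧ genericPoint Y ∈ W ∧ IsClosed K ∧
      (∀ κ ∈ K, ∃ z ∈ E, f z = genericPoint Y ∧ m ≤ FibDim.rd f z ∧ z ⤳ κ) ∧
      ∀ t ∈ E, f t ∈ W → m ≤ FibDim.rd f t → t ∈ K := by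
  suffices H : ∀ C : Set X, IsClosed C → ∃ (W : Set Y) (K : Set X), IsOpen W ∧ genericPoint Y ∈ W ∧ IsClosed K ∧
      (∀ κ ∈ K, ∃ z ∈ E, f z = genericPoint Y ∧ m ≤ FibDim.rd f z ∧ z ⤳ κ) ∧
      ∀ t ∈ C ∩ E, f t ∈ W → m ≤ FibDim.rd f t → t ∈ K by
    obtain ⟨W, K, a, b, c, d, e⟩ := H Set.univ isClosed_univ
    exact ⟨W, K, a, b, c, d, fun t ht => e t ⟨trivial, ht⟩⟩
  intro C hC
  refine SpecLib.irred_induction (P := fun C => ∃ (W : Set Y) (K : Set X), IsOpen W ∧ genericPoint Y ∈ W ∧ IsClosed K ∧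
      (∀ κ ∈ K, ∃ z ∈ E, f z = genericPoint Y ∧ m ≤ FibDim.rd f z ∧ z ⤳ κ) ∧
      ∀ t ∈ C ∩ E, f t ∈ W → m ≤ FibDim.rd f t → t ∈ K) ?_ ?_ ?_ hC
  · exact ⟨Set.univ, ∅, isOpen_univ, trivial, isClosed_empty, fun κ hκ => hκ.elim, fun t ht => ht.1.elim⟩
  · rintro A C' _ _ ⟨W₁, K₁, o₁, η₁, c₁, d₁, e₁⟩ ⟨W₂, K₂, o₂, η₂, c₂, d₂, e₂⟩
    exact ⟨W₁ ∩ W₂, K₁ ∪ K₂, o₁.inter o₂, ⟨η₁, η₂⟩, c₁.union c₂, fun κ hκ => hκ.elim (d₁ κ) (d₂ κ),
      fun t ht hW hm => ht.1.elim (fun h => Or.inl (e₁ t ⟨h, ht.2⟩ hW.1 hm))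
        fun h => Or.inr (e₂ t ⟨h, ht.2⟩ hW.2 hm)⟩
  · intro C hC hirr ih
    have hb := hirr.isGenericPoint_genericPoint hC
    let b := hirr.genericPoint
    by_cases hfb : f b = genericPoint Y
    · by_cases hrd : m ≤ FibDim.rd f b
      · by_cases hbE : b ∈ E
        · exact ⟨Set.univ, C, isOpen_univ, trivial, hC, fun κ hκ => ⟨b, hbE, hfb, hrd, hb.specializes hκ⟩,
            fun t ht _ _ => ht.1⟩
        · obtain ⟨O, hO, hbO, hsub⟩ := ConsPropLib.exists_open_closure_subset hE.compl hbE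
          obtain ⟨W, K, o, η, c, d, e⟩ := ih (C ∩ Oᶜ) (hC.inter hO.isClosed_compl)
            (Set.inter_subset_left.ssubset_of_ne fun e => (e.ge hb.mem).2 hbO)
          exact ⟨W, K, o, η, c, d, fun t ht hW hm => e t ⟨⟨ht.1, fun htO => hsub
            ⟨htO, (hb.specializes ht.1).mem_closure⟩ ht.2⟩, ht.2⟩ hW hm⟩
      · obtain ⟨W, hW, hη, hk⟩ := ConsPropLib.exists_nhd_rd_eq f hfb
        refine ⟨W, ∅, hW, hη, isClosed_empty, fun κ hκ => hκ.elim, fun t ht htW hm => (hrd ?_).elim⟩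
        obtain ⟨v, hv, hg, hmax, hle⟩ := exists_maximal f (S := closure {b})
          (hb.specializes ht.1).mem_closure
        have hv' := hk v (specializes_iff_mem_closure.2 hv) (show f v ∈ W by rw [hg.2]; exact htW)
          fun y' h1 h2 h3 => hmax y' h1.mem_closure ⟨h2, h3⟩
        have := hle t (hb.specializes ht.1).mem_closure (AssDimLoci.Gen.refl f t)
        omega
    · refine ⟨(closure {f b})ᶜ, ∅, isClosed_closure.isOpen_compl, fun h => hfb ?_, isClosed_empty,
        fun κ hκ => hκ.elim, fun t ht htW _ => (htW ((hb.specializes ht.1).map f.continuous).mem_closure).elim⟩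
      exact ((specializes_iff_mem_closure.2 h).antisymm ((genericPoint_spec Y).specializes (Set.mem_univ _))).eq

/-- The dichotomy at a point of the generic fibre. -/
theorem dichotomy {E : Set X} (hE : IsConstructible E) (m : ℕ) {ξ : X} (hξ : f ξ = genericPoint Y) :
    ∃ O : Set X, IsOpen O ∧ ξ ∈ O ∧ ∀ y, ξ ⤳ y → y ∈ O → (y ∈ B f E m ↔ ξ ∈ B f E m) := by
  by_cases hB : ξ ∈ B f E m
  · obtain ⟨t, htE, ⟨hs, hft⟩, hm⟩ := hB
    have hfη : f t = genericPoint Y := hft.trans hξ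
    obtain ⟨W₀, hW₀, hη₀, hk⟩ := ConsPropLib.exists_nhd_rd_eq f hfη
    obtain ⟨O, hO, htO, hsub⟩ := ConsPropLib.exists_open_closure_subset hE htE
    have hE' : IsConstructible (closure {t} ∩ Oᶜ) := by
      have hO' : IsConstructible O := (TopologicalSpace.NoetherianSpace.isCompact O).isConstructible hO
      have hc : IsConstructible (closure ({t} : Set X))ᶜ :=
        (TopologicalSpace.NoetherianSpace.isCompact _).isConstructible isClosed_closure.isOpen_compl
      simpa using hc.compl.inter hO'.compl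
    obtain ⟨W₁, K, hW₁, hη₁, -, hK, hbad⟩ := exists_nhd_K f hE' (FibDim.rd f t)
    refine ⟨f ⁻¹' (W₀ ∩ W₁), (hW₀.inter hW₁).preimage f.continuous, ?_,
      fun y hy hyW => iff_of_true ?_ ⟨t, htE, ⟨hs, hft⟩, hm⟩⟩
    · rw [Set.mem_preimage, hξ]; exact ⟨hη₀, hη₁⟩
    obtain ⟨v, hv, hg, hmax, -⟩ := exists_maximal f (S := closure {t}) (hs.trans hy).mem_closure
    have hfv : f v ∈ W₀ ∩ W₁ := by rw [hg.2]; exact hyW
    have hrv := hk v (specializes_iff_mem_closure.2 hv) hfv.1 fun y' h1 h2 h3 => hmax y' h1.mem_closure ⟨h2, h3⟩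
    have hvO : v ∈ O := by
      by_contra hvO
      obtain ⟨z, ⟨hz1, hz2⟩, hfz, hzm, -⟩ := hK v (hbad v ⟨hv, hvO⟩ hfv.2 hrv.ge)
      have hne : t ≠ z := fun e => hz2 (e ▸ htO)
      have := FibDim.rd_lt f (specializes_iff_mem_closure.2 hz1) hne (hfη.trans hfz.symm)
      omega
    exact ⟨v, hsub ⟨hvO, hv⟩, hg, by omega⟩
  · obtain ⟨W, K, hW, hη, hKc, hK, hmem⟩ := exists_nhd_K f hE m
    refine ⟨f ⁻¹' W ∩ Kᶜ, (hW.preimage f.continuous).inter hKc.isOpen_compl, ⟨?_, fun hξK => hB ?_⟩,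
      fun y _ hyW => iff_of_false ?_ hB⟩
    · rw [Set.mem_preimage, hξ]; exact hη
    · obtain ⟨z, hzE, hfz, hzm, hzs⟩ := hK ξ hξK
      exact ⟨z, hzE, ⟨hzs, hfz.trans hξ.symm⟩, hzm⟩
    · rintro ⟨t, htE, ⟨hs, hft⟩, hm⟩
      exact hyW.2 (hs.mem_closed hKc (hmem t htE (by rw [hft]; exact hyW.1) hm))

end Generic

theorem isConstructible_B_noetherian [IsLocallyNoetherian Y] [IsNoetherian X] [CompactSpace Y] [QuasiCompact f]
    {E : Set X} (hE : IsConstructible E) (m : ℕ) : IsConstructible (B f E m) := by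
  refine ConsPropLib.isConstructible_of_dichotomy _ fun T j _ _ _ => ?_
  obtain ⟨TS, jS, _, _, hr, hgen⟩ := ConsPropLib.exists_integral_closure (f (j (genericPoint T)))
  haveI : IsLocallyNoetherian TS := LocallyOfFiniteType.isLocallyNoetherian jS
  haveI : CompactSpace TS := QuasiCompact.compactSpace_of_compactSpace jS
  haveI : IsNoetherian TS := {}
  have sub : Set.range (j ≫ f) ⊆ Set.range jS := by
    rw [hr]
    rintro _ ⟨t, rfl⟩
    exact specializes_iff_mem_closure.1 ((genericPoint_specializes t).map (j ≫ f).continuous)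
  obtain ⟨a, ha⟩ := H23.RedSub.exists_lift_closed (j ≫ f) jS sub
  let l : T ⟶ pullback f jS := pullback.lift j a ha.symm
  let f₁ := pullback.snd f jS
  haveI : IsLocallyNoetherian (pullback f jS : Scheme.{u}) := LocallyOfFiniteType.isLocallyNoetherian f₁
  haveI : CompactSpace (pullback f jS : Scheme.{u}) := QuasiCompact.compactSpace_of_compactSpace f₁
  haveI : IsNoetherian (pullback f jS : Scheme.{u}) := {}
  have hgenl : f₁ (l (genericPoint T)) = genericPoint TS := jS.isClosedEmbedding.injective (by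
    rw [hgen, ← Scheme.Hom.comp_apply, ← Scheme.Hom.comp_apply, show l ≫ f₁ ≫ jS = j ≫ f from
      (pullback.lift_snd_assoc _ _ _ _).trans ha, Scheme.Hom.comp_apply])
  have hb := B_baseChange (IsPullback.of_hasPullback f jS) E m
  have hlj : ∀ t, l t ∈ B f₁ (pullback.fst f jS ⁻¹' E) m ↔ j t ∈ B f E m := fun t => by
    rw [hb, Set.mem_preimage, ← Scheme.Hom.comp_apply, pullback.lift_fst]
  obtain ⟨O, hO, hξO, hiff⟩ := dichotomy f₁ (MorLib.LimCons.isConstructible_preimage (pullback.fst f jS) hE) m hgenl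
  have hgT : genericPoint T ∈ l ⁻¹' O := hξO
  have hd : ∀ t ∈ l ⁻¹' O, (j t ∈ B f E m ↔ j (genericPoint T) ∈ B f E m) := fun t ht =>
    (hlj t).symm.trans ((hiff (l t) ((genericPoint_specializes t).map l.continuous) ht).trans (hlj _))
  by_cases hg : j (genericPoint T) ∈ B f E m
  · exact Or.inl ⟨genericPoint T, interior_maximal (fun t ht => (hd t ht).2 hg) (hO.preimage l.continuous) hgT⟩
  · exact Or.inr ⟨genericPoint T, interior_maximal (fun t ht h => hg ((hd t ht).1 h)) (hO.preimage l.continuous) hgT⟩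

end Groth.Agent.GenRdCons
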