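import Groth.Agent.GenRdCons.Loci

/-!
# The dimensions of the components of the fibres of a constructible set
-/

set_option autoImplicit false
set_option linter.style.haveILetI false
set_option linter.unusedSectionVars false
set_option linter.deprecated false
set_option backward.isDefEq.respectTransparency false
set_option backward.isDefEq.respectTransparency.types false

universe u

open CategoryTheory CategoryTheory.Limits AlgebraicGeometry Topology
open Groth.Agent.AssDimLoci (Gen)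

noncomputable section

namespace Groth.Agent.GenRdCons

/-- The dimensions of the components of a space. -/
def dimSet (A : Type u) [TopologicalSpace A] : Set (WithBot ℕ∞) :=
  (fun T : Set A => topologicalKrullDim ↥T) '' irreducibleComponents A

theorem dimSet_homeo {A B : Type u} [TopologicalSpace A] [TopologicalSpace B] (e : A ≃ₜ B) :
    dimSet A = dimSet B := by
  have key : ∀ {A B : Type u} [TopologicalSpace A] [TopologicalSpace B] (e : A ≃ₜ B), dimSet B ⊆ dimSet A := by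
    intro A B _ _ e
    rintro _ ⟨C, hC, rfl⟩
    refine ⟨e ⁻¹' C, preimage_mem_irreducibleComponents hC e.isOpenEmbedding (by
      rw [e.surjective.range_eq, Set.inter_univ]
      exact hC.1.nonempty), ?_⟩
    exact ((e.sets (t := C) (s := e ⁻¹' C) rfl).isHomeomorph.topologicalKrullDim_eq)
  exact subset_antisymm (key e.symm) (key e)

variable {X S : Scheme.{u}} (f : X ⟶ S) [LocallyOfFiniteType f]

/-- The maximal points of `Z` in the fibre. -/
def maxPts (Z : Set X) (s : S) : Set X := {t | t ∈ Z ∧ f t = s ∧ ∀ t' ∈ Z, Gen f t t' → t' = t}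

theorem dim_closure_inter_of_open {t : X} {O : Set X} (hO : IsOpen O) (ht : t ∈ O) :
    topologicalKrullDim ↥(O ∩ closure {t} ∩ f ⁻¹' {f t}) = ((FibDim.rd f t : ℕ∞) : WithBot ℕ∞) := by
  rw [FibDim.dim_inter_eq_iSup f _ hO isClosed_closure]
  refine le_antisymm (iSup_le fun z => ?_) (le_iSup_of_le ⟨t, ⟨ht, subset_closure rfl⟩, rfl⟩ le_rfl)
  exact_mod_cast FibDim.rd_le_of_specializes f (specializes_iff_mem_closure.2 z.2.1.2) z.2.2.symm

theorem dimSet_fibre (Z : Set X) (s : S) (hZ : IsLocallyClosed (f.fiberι s ⁻¹' Z)) :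
    dimSet ↥(f.fiberι s ⁻¹' Z) = (fun t => ((FibDim.rd f t : ℕ∞) : WithBot ℕ∞)) '' maxPts f Z s := by
  obtain ⟨U, C, hU, hC, hUC⟩ := hZ
  obtain ⟨O, hO, rfl⟩ := (f.fiberι s).isEmbedding.isInducing.isOpen_iff.1 hU
  let T : Set ↥(f.fiber s) := f.fiberι s ⁻¹' Z
  haveI : QuasiSober ↥C := hC.isClosedEmbedding_subtypeVal.quasiSober
  haveI : QuasiSober ↥T :=
    (IsOpenEmbedding.quasiSober (f := Set.inclusion (show T ⊆ C from hUC.le.trans Set.inter_subset_right))
      (.inclusion _ (by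
        rw [show (Subtype.val ⁻¹' T : Set ↥C) = Subtype.val ⁻¹' (f.fiberι s ⁻¹' O) from Set.ext fun a => by
          show a.1 ∈ T ↔ _
          rw [show T = _ from hUC]
          exact and_iff_left a.2]
        exact (hO.preimage (f.fiberι s).continuous).preimage continuous_subtype_val)))
  have hsp : ∀ a b : ↥T, a ⤳ b ↔ f.fiberι s a.1 ⤳ f.fiberι s b.1 := fun a b =>
    (subtype_specializes_iff a b).trans (f.fiberι s).isEmbedding.isInducing.specializes_iff.symm
  have hdim : ∀ w : ↥T, topologicalKrullDim ↥(closure ({w} : Set ↥T)) =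
      ((FibDim.rd f (f.fiberι s w.1) : ℕ∞) : WithBot ℕ∞) := by
    intro w
    have hw : f (f.fiberι s w.1) = s := AssDimLoci.apply_fiberι f s w.1
    have hwU : f.fiberι s w.1 ∈ O ∧ w.1 ∈ C := hUC.le w.2
    rw [← dim_closure_inter_of_open f hO hwU.1, hw]
    let j : ↥T → X := fun a => f.fiberι s a.1
    have hj : IsEmbedding j := (f.fiberι s).isEmbedding.comp IsEmbedding.subtypeVal
    rw [((hj.homeomorphImage (closure ({w} : Set ↥T))).trans (Homeomorph.setCongr ?_)).isHomeomorph.topologicalKrullDim_eq]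
    ext z
    constructor
    · rintro ⟨a, ha, rfl⟩
      exact ⟨⟨(hUC.le a.2).1, ((hsp w a).1 (specializes_iff_mem_closure.2 ha)).mem_closure⟩,
        AssDimLoci.apply_fiberι f s a.1⟩
    · rintro ⟨⟨hzO, hz⟩, hzs⟩
      obtain ⟨v, rfl⟩ : z ∈ Set.range (f.fiberι s) := by rw [Scheme.Hom.range_fiberι]; exact hzs
      have hwv : w.1 ⤳ v := (f.fiberι s).isEmbedding.isInducing.specializes_iff.1 (specializes_iff_mem_closure.2 hz)
      have hvT : v ∈ T := hUC.ge ⟨hzO, hwv.mem_closed hC hwU.2⟩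
      exact ⟨⟨v, hvT⟩, ((hsp w ⟨v, hvT⟩).2 (specializes_iff_mem_closure.2 hz)).mem_closure, rfl⟩
  ext d
  constructor
  · rintro ⟨C', hC', rfl⟩
    obtain ⟨w, rfl, hw⟩ := FDescent.exists_maximal_of_mem_irreducibleComponents hC'
    refine ⟨f.fiberι s w.1, ⟨w.2, AssDimLoci.apply_fiberι f s w.1, fun t' ht' hg => ?_⟩, (hdim w).symm⟩
    obtain ⟨v, rfl⟩ := AssDimLoci.exists_fiberι_eq f hg
    exact congrArg (fun a : ↥T => f.fiberι s a.1) (hw ⟨v, ht'⟩ ((hsp _ _).2 hg.1))
  · rintro ⟨t, ⟨htZ, hts, hmax⟩, rfl⟩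
    obtain ⟨v, rfl⟩ : t ∈ Set.range (f.fiberι s) := by rw [Scheme.Hom.range_fiberι]; exact hts
    refine ⟨closure {(⟨v, htZ⟩ : ↥T)}, FDescent.closure_mem_irreducibleComponents fun a ha => ?_, hdim ⟨v, htZ⟩⟩
    exact Subtype.ext ((f.fiberι s).isEmbedding.injective (hmax _ a.2 ⟨(hsp _ _).1 ha,
      (AssDimLoci.apply_fiberι f s a.1).trans (AssDimLoci.apply_fiberι f s v).symm⟩))

omit [LocallyOfFiniteType f] in
/-- The points of `Z` maximal in their fibre of degree `d`, up to specialization in the fibre. -/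
theorem exists_maxPts_iff [LocallyOfFinitePresentation f] (Z : Set X) (s : S) (d : ℕ) :
    (∃ t ∈ maxPts f Z s, FibDim.rd f t = d) ↔ s ∈ f '' B f (Z \ B f Z (d + 1)) d := by
  constructor
  · rintro ⟨t, ⟨htZ, rfl, hmax⟩, rfl⟩
    refine ⟨t, ⟨t, ⟨htZ, ?_⟩, Gen.refl f t, le_rfl⟩, rfl⟩
    rintro ⟨t', ht', hg, hd⟩
    rw [hmax t' ht' hg] at hd
    omega
  · rintro ⟨x, ⟨t, ⟨htZ, htn⟩, hg, hd⟩, rfl⟩
    obtain ⟨t', ht', hg', hmax, hle⟩ := AssDimLoci.exists_maximal f htZ
    refine ⟨t', ⟨ht', hg'.2.trans hg.2, hmax⟩, ?_⟩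
    have h1 : FibDim.rd f t ≤ FibDim.rd f t' := hle t htZ (Gen.refl f t)
    have h2 : ¬ d + 1 ≤ FibDim.rd f t' := fun h => htn ⟨t', ht', hg', h⟩
    omega

omit [LocallyOfFiniteType f] in
/-- The level sets of the dimensions of the components. -/
theorem isLocallyConstructible_dims [LocallyOfFinitePresentation f] [QuasiCompact f] [QuasiSeparated f]
    {Z : Set X} (hZ : IsLocallyConstructible Z) (Φ : Set (WithBot ℕ∞)) :
    IsLocallyConstructible
      {s : S | (fun t => ((FibDim.rd f t : ℕ∞) : WithBot ℕ∞)) '' maxPts f Z s = Φ} := by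
  classical
  let c : ℕ → WithBot ℕ∞ := fun d => ((d : ℕ∞) : WithBot ℕ∞)
  let G : ℕ → Set S := fun d => f '' B f (Z \ B f Z (d + 1)) d
  have hG : ∀ d, IsLocallyConstructible (G d) := fun d =>
    f.isLocallyConstructible_image (isLocallyConstructible_B f
      (hZ.inter (FibreLoc5.lc_compl (isLocallyConstructible_B f hZ (d + 1)))) d)
  intro s₀
  obtain ⟨V, hV, hsV, -⟩ := exists_isAffineOpen_mem_and_subset (U := (⊤ : S.Opens)) (x := s₀) trivial
  have hcpt : IsCompact (f ⁻¹' (V : Set S)) := f.isCompact_preimage hV.isCompact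
  obtain ⟨N, hN⟩ : ∃ N : ℕ, ∀ x, f x ∈ V → FibDim.rd f x ≤ N := by
    choose U N hU hxU hN using AssDimLoci.exists_bound f
    obtain ⟨I, hI⟩ := hcpt.elim_finite_subcover U hU fun x _ => Set.mem_iUnion.2 ⟨x, hxU x⟩
    refine ⟨I.sup N, fun x hx => ?_⟩
    obtain ⟨i, hi, hxi⟩ := Set.mem_iUnion₂.1 (hI hx)
    exact (hN i x hxi).trans (Finset.le_sup hi)
  have hmem : ∀ s ∈ V, ∀ d : ℕ, s ∈ G d → d ≤ N := fun s hs d hd => by
    obtain ⟨t, ⟨-, rfl, -⟩, rfl⟩ := (exists_maxPts_iff f Z s d).2 hd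
    exact hN t hs
  let P : Prop := ∀ a ∈ Φ, ∃ d ≤ N, a = c d
  have hfin : IsLocallyConstructible (if P then ⋂ d : Fin (N + 1), (if c d.1 ∈ Φ then G d.1 else (G d.1)ᶜ) else ∅) := by
    split_ifs
    · refine IsLocallyConstructible.iInter fun d => ?_
      split_ifs
      exacts [hG _, FibreLoc5.lc_compl (hG _)]
    · exact IsLocallyConstructible.empty
  obtain ⟨W, hsW, hW, hc⟩ := hfin s₀
  refine ⟨(V : Set S) ∩ W, Filter.inter_mem (V.2.mem_nhds hsV) hsW, V.2.inter hW, ?_⟩
  have hc' := hc.preimage_of_isOpenEmbedding (f := Set.inclusion (Set.inter_subset_right : (V : Set S) ∩ W ⊆ W))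
    (.inclusion _ <| .preimage continuous_subtype_val <| V.2.inter hW)
  refine Eq.subst (motive := IsConstructible) (Set.ext fun y => ?_) hc'
  show y.1 ∈ (if P then _ else (∅ : Set S)) ↔ _ = Φ
  constructor
  · intro h
    split_ifs at h with hP
    · refine Set.ext fun a => ⟨?_, fun ha => ?_⟩
      · rintro ⟨t, ht, rfl⟩
        have hy := (exists_maxPts_iff f Z y.1 _).1 ⟨t, ht, rfl⟩
        have := Set.mem_iInter.1 h ⟨_, Nat.lt_succ_of_le (hmem _ y.2.1 _ hy)⟩
        split_ifs at this with hh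
        · exact hh
        · exact absurd hy this
      · obtain ⟨d, hd, rfl⟩ := hP a ha
        have := Set.mem_iInter.1 h ⟨d, Nat.lt_succ_of_le hd⟩
        rw [if_pos ha] at this
        obtain ⟨t, ht, rfl⟩ := (exists_maxPts_iff f Z y.1 d).2 this
        exact ⟨t, ht, rfl⟩
    · exact h.elim
  · intro h
    have hP : P := fun a ha => by
      obtain ⟨t, ht, rfl⟩ := h.ge ha
      exact ⟨_, hN t (ht.2.1.symm ▸ y.2.1), rfl⟩
    rw [if_pos hP]
    refine Set.mem_iInter.2 fun d => ?_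
    split_ifs with hh
    · obtain ⟨t, ht, he⟩ := h.ge hh
      exact (exists_maxPts_iff f Z y.1 d.1).1 ⟨t, ht, by simpa [c] using he⟩
    · intro hd
      obtain ⟨t, ht, he⟩ := (exists_maxPts_iff f Z y.1 d.1).2 hd
      exact hh (h.le ⟨t, ht, by simp [c, he]⟩)

end Groth.Agent.GenRdCons
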