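import Groth.Agent.GenRdCons.Supp
import Groth.Agent.RectCons.Rect
import Groth.Agent.AssDimLoci.Main

/-!
# Constructible loci cut out by the depth of the fibre module at generizations in the fibre
-/

set_option autoImplicit false
set_option linter.style.haveILetI false
set_option linter.unusedSectionVars false
set_option linter.deprecated false

universe u

open CategoryTheory AlgebraicGeometry Topology
open Groth.Agent.AssDimLoci (Gen fdepth Fib)

namespace Groth.Agent.GenRdCons

variable {X S : Scheme.{u}} (f : X ⟶ S) (F : X.Modules)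

/-- The points whose rectified fibre depth is at most `n`. -/
def rectLE (n : ℕ) : Set X := {x | fdepth f F x + (FibDim.rd f x : ℕ∞) ≤ n}

/-- The points with a generization in their fibre which lies in `P` and has fibre depth at most `n`. -/
def GenD (n : ℕ) (P : Set X) : Set X := {x | ∃ t ∈ P, Gen f x t ∧ fdepth f F t ≤ n}

/-- The points with an associated point of the fibre module among their generizations in the fibre,
lying in the set attached to its relative degree. -/
def GenA (P : ℕ → Set X) : Set X := {x | ∃ t, t ∈ P (FibDim.rd f t) ∧ Gen f x t ∧ fdepth f F t = 0}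

theorem genD_eq (n : ℕ) (P : Set X) :
    GenD f F n P = {x | ∃ m, x ∈ B f (P ∩ rectLE f F (n + m)) m} := by
  ext x
  constructor
  · rintro ⟨t, ht, hg, hd⟩
    exact ⟨FibDim.rd f t, t, ⟨ht, le_of_le_of_eq (add_le_add_left hd _) (Nat.cast_add _ _).symm⟩, hg, le_rfl⟩
  · rintro ⟨m, t, ⟨ht, hr⟩, hg, hm⟩
    refine ⟨t, ht, hg, ?_⟩
    have hr' : fdepth f F t + (FibDim.rd f t : ℕ∞) ≤ (n + m : ℕ) := hr
    generalize fdepth f F t = b at hr'
    induction b using ENat.recTopCoe with
    | top => simp at hr'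
    | coe b =>
      have h : b + FibDim.rd f t ≤ n + m := by exact_mod_cast hr'
      exact_mod_cast (show b ≤ n by omega)

theorem genA_eq (P : ℕ → Set X) : GenA f F P = {x | ∃ m, x ∈ B f (P m ∩ rectLE f F m) m} := by
  ext x
  constructor
  · rintro ⟨t, ht, hg, hd⟩
    exact ⟨FibDim.rd f t, t, ⟨ht, show fdepth f F t + _ ≤ _ by rw [hd, zero_add]⟩, hg, le_rfl⟩
  · rintro ⟨m, t, ⟨ht, hr⟩, hg, hm⟩
    have hr' : fdepth f F t + (FibDim.rd f t : ℕ∞) ≤ (m : ℕ) := hr
    generalize hb : fdepth f F t = b at hr'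
    induction b using ENat.recTopCoe with
    | top => simp at hr'
    | coe b =>
      have h : b + FibDim.rd f t ≤ m := by exact_mod_cast hr'
      exact ⟨t, (show FibDim.rd f t = m by omega) ▸ ht, hg,
        hb.trans (by exact_mod_cast (show b = 0 by omega))⟩

/-- The image of `GenA` in the base. -/
theorem mem_image_genA_iff (P : ℕ → Set X) (s : S) :
    s ∈ f '' GenA f F P ↔ ∃ t, f t = s ∧ t ∈ P (FibDim.rd f t) ∧ fdepth f F t = 0 :=
  ⟨fun ⟨_, ⟨t, ht, hg, hd⟩, he⟩ => ⟨t, hg.2.trans he, ht, hd⟩,
    fun ⟨t, he, ht, hd⟩ => ⟨t, ⟨t, ht, Gen.refl f t, hd⟩, he⟩⟩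

variable [LocallyOfFinitePresentation f] (hF : CohB1.IsFP F)
include hF

theorem isLocallyConstructible_rectLE (n : ℕ) : IsLocallyConstructible (rectLE f F n) := by
  have hk : ∀ k : ℕ, IsLocallyConstructible {x : X | fdepth f F x + (FibDim.rd f x : ℕ∞) = k} := fun k => by
    refine Eq.subst (motive := IsLocallyConstructible) (Set.ext fun x => ?_)
      (RectCons.level_isLocallyConstructible f F hF k)
    have h : topologicalKrullDim ↥(closure ({f.asFiber x} : Set ↥(f.fiber (f x)))) = ((FibDim.rd f x : ℕ∞) : WithBot ℕ∞) :=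
      (AssDimLoci.dim_closure f (f x) (f.asFiber x)).trans (by rw [f.fiberι_asFiber])
    show ((fdepth f F x : ℕ∞) : WithBot ℕ∞) + topologicalKrullDim ↥(closure ({f.asFiber x} : Set ↥(f.fiber (f x)))) = _ ↔ _
    rw [h, ← WithBot.coe_add]
    exact WithBot.coe_inj
  refine Eq.subst (motive := IsLocallyConstructible) (Set.ext fun x => ?_)
    (IsLocallyConstructible.biUnion (Set.finite_Iic n) fun k _ => hk k)
  show x ∈ ⋃ k ∈ Set.Iic n, {x : X | fdepth f F x + (FibDim.rd f x : ℕ∞) = k} ↔ _ ≤ (n : ℕ∞)
  simp only [Set.mem_iUnion₂, Set.mem_Iic, Set.mem_ofPred_eq, exists_prop]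
  generalize fdepth f F x + (FibDim.rd f x : ℕ∞) = a
  induction a using ENat.recTopCoe with
  | top => simp
  | coe a =>
    exact ⟨fun ⟨k, hk, he⟩ => by exact_mod_cast (show a = k by exact_mod_cast he) ▸ hk,
      fun h => ⟨a, by exact_mod_cast h, rfl⟩⟩

theorem isLocallyConstructible_genD (n : ℕ) {P : Set X} (hP : IsLocallyConstructible P) :
    IsLocallyConstructible (GenD f F n P) := by
  rw [genD_eq]
  exact isLocallyConstructible_iUnion_B f _ fun m => hP.inter (isLocallyConstructible_rectLE f F hF (n + m))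

theorem isLocallyConstructible_genA {P : ℕ → Set X} (hP : ∀ m, IsLocallyConstructible (P m)) :
    IsLocallyConstructible (GenA f F P) := by
  rw [genA_eq]
  exact isLocallyConstructible_iUnion_B f _ fun m => (hP m).inter (isLocallyConstructible_rectLE f F hF m)

theorem isLocallyConstructible_image_genA [QuasiCompact f] {P : ℕ → Set X}
    (hP : ∀ m, IsLocallyConstructible (P m)) : IsLocallyConstructible (f '' GenA f F P) :=
  f.isLocallyConstructible_image (isLocallyConstructible_genA f F hF hP)

theorem mem_ass_asFiber_iff (x : X) : f.asFiber x ∈ AssSch.Ass (Fib f F (f x)) ↔ fdepth f F x = 0 := by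
  have h := AssDimLoci.mem_ass_iff f F hF (f x) (f.asFiber x)
  rwa [f.fiberι_asFiber] at h

/-- The base points whose fibre module has an associated point in `P` do not depend on how they are written. -/
theorem mem_image_genA_fib_iff (P : ℕ → Set X) (s : S) :
    s ∈ f '' GenA f F P ↔ ∃ z ∈ AssSch.Ass (Fib f F s), f.fiberι s z ∈ P (FibDim.rd f (f.fiberι s z)) := by
  rw [mem_image_genA_iff]
  constructor
  · rintro ⟨t, he, ht, hd⟩
    obtain ⟨z, rfl⟩ : t ∈ Set.range (f.fiberι s) := by rw [Scheme.Hom.range_fiberι]; exact he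
    exact ⟨z, (AssDimLoci.mem_ass_iff f F hF s z).2 hd, ht⟩
  · rintro ⟨z, hz, hP⟩
    exact ⟨_, AssDimLoci.apply_fiberι f s z, hP, (AssDimLoci.mem_ass_iff f F hF s z).1 hz⟩

end Groth.Agent.GenRdCons
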