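import Groth.Agent.GenRdCons.Depth
import Groth.Agent.NisCov7.Basic
import Groth.Agent.LC.ExtDim
import Groth.Prelude.Def_CInt

/-!
# Semicontinuity and constructibility of the depth of the fibre module along a closed subset
-/

set_option autoImplicit false
set_option linter.style.haveILetI false
set_option linter.unusedSectionVars false
set_option linter.deprecated false
set_option backward.isDefEq.respectTransparency false
set_option backward.isDefEq.respectTransparency.types false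

universe u

open CategoryTheory AlgebraicGeometry Topology
open Groth.Agent.AssDimLoci (Gen fdepth Fib)

namespace Groth.Agent.GenRdCons

/-- A locally constructible subset of a scheme is retrocompact. -/
theorem isRetrocompact_of_isLocallyConstructible {X : Scheme.{u}} {T : Set X} (hT : IsLocallyConstructible T) :
    IsRetrocompact T := by
  intro K hK hKo
  obtain ⟨s, hs, he⟩ := (isCompact_and_isOpen_iff_finite_and_eq_biUnion_affineOpens (U := K)).1 ⟨hK, hKo⟩
  rw [he, Set.inter_iUnion₂]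
  refine hs.isCompact_biUnion fun U _ => ?_
  haveI : IsAffine (U.1 : Scheme.{u}) := U.2
  have h1 : IsCompact (U.1.ι ⁻¹' T : Set (U.1 : Scheme.{u})) :=
    NisCov7.isCompact_of_isConstructible (hT.preimage_of_isOpenEmbedding U.1.ι.isOpenEmbedding).isConstructible
  have h2 := h1.image U.1.ι.continuous
  rwa [Set.image_preimage_eq_inter_range, Scheme.Opens.range_ι] at h2

theorem isLocallyConstructible_compl' {Z : Type*} [TopologicalSpace Z] {s : Set Z}
    (h : IsLocallyConstructible s) : IsLocallyConstructible sᶜ := fun x =>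
  let ⟨U, h1, h2, h3⟩ := h x
  ⟨U, h1, h2, h3.compl⟩

variable {X S : Scheme.{u}} (f : X ⟶ S) (F : X.Modules)

theorem succ_le_fiberDepthAlong_iff (Y : Set X) (y : X) (n : ℕ) :
    ((n + 1 : ℕ) : ℕ∞) ≤ CInt.fiberDepthAlong f F Y y ↔ y ∉ GenD f F n Y := by
  show ((n + 1 : ℕ) : ℕ∞) ≤ ⨅ z : {z : X // z ∈ Y ∧ z ⤳ y ∧ f.base z = f.base y}, fdepth f F z.1 ↔ _
  rw [le_iInf_iff]
  have key : ∀ a : ℕ∞, ((n + 1 : ℕ) : ℕ∞) ≤ a ↔ ¬ a ≤ n := fun a => by
    induction a using ENat.recTopCoe with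
    | top => simp
    | coe a =>
      norm_cast
      omega
  exact ⟨fun h ⟨t, ht, hg, hd⟩ => (key _).1 (h ⟨t, ht, hg.1, hg.2⟩) hd,
    fun h z => (key _).2 fun hd => h ⟨z.1, z.2.1, ⟨z.2.2.1, z.2.2.2⟩, hd⟩⟩

theorem setOf_succ_le_fiberDepthAlong (Y : Set X) (n : ℕ) :
    {y : X | ((n + 1 : ℕ) : ℕ∞) ≤ CInt.fiberDepthAlong f F Y y} = (GenD f F n Y)ᶜ :=
  Set.ext fun y => succ_le_fiberDepthAlong_iff f F Y y n

variable [LocallyOfFinitePresentation f] (hF : CohB1.IsFP F)
include hF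

theorem isLocallyConstructible_le_fiberDepthAlong {Y : Set X} (hY : IsLocallyConstructible Y) (n : ℕ) :
    IsLocallyConstructible {y : X | (n : ℕ∞) ≤ CInt.fiberDepthAlong f F Y y} := by
  cases n with
  | zero =>
    convert (IsLocallyConstructible.univ (X := X)) using 1
    ext y
    simp
  | succ n =>
    rw [setOf_succ_le_fiberDepthAlong]
    exact isLocallyConstructible_compl' (isLocallyConstructible_genD f F hF n hY)

theorem isClosed_genD (hflat : FlatMod.IsFlatOver f F) {Y : Set X} (hY : IsClosed Y) (n : ℕ) :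
    IsClosed (GenD f F n Y) := by
  refine ⟨isOpen_iff_forall_mem_open.2 fun x hx => ?_⟩
  obtain ⟨U, N, hU, hxU, hN⟩ := AssDimLoci.exists_bound f x
  have D := AssDimLoci.depthData f F hF hflat
  have hc : ∀ m, IsClosed (B f (Y ∩ rectLE f F (n + m)) m) := fun m =>
    AssDimLoci.isClosed_exists_gen_rd f (hY.inter (D.closedLE (n + m))) m
  rw [genD_eq] at hx ⊢
  refine ⟨U ∩ ⋂ m ∈ Finset.range (N + 1), (B f (Y ∩ rectLE f F (n + m)) m)ᶜ, ?_,
    hU.inter (isOpen_biInter_finset fun m _ => (hc m).isOpen_compl), hxU,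
    Set.mem_iInter₂.2 fun m _ h => hx ⟨m, h⟩⟩
  rintro z ⟨hzU, hz⟩ ⟨m, t, ht, hg, hm⟩
  refine Set.mem_iInter₂.1 hz m (Finset.mem_range.2 ?_) ⟨t, ht, hg, hm⟩
  have := hN t (hg.1.mem_open hU hzU)
  omega

theorem exists_open_fiberDepthAlong_ge (hflat : FlatMod.IsFlatOver f F) {Y : Set X} (hY : IsClosed Y) (n : ℕ) :
    ∃ U : X.Opens, ∀ y : X, y ∈ Y → (y ∈ U ↔ (n : ℕ∞) ≤ CInt.fiberDepthAlong f F Y y) := by
  cases n with
  | zero => exact ⟨⊤, fun y _ => ⟨fun _ => by simp, fun _ => trivial⟩⟩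
  | succ n =>
    exact ⟨⟨_, (isClosed_genD f F hF hflat hY n).isOpen_compl⟩,
      fun y _ => (succ_le_fiberDepthAlong_iff f F Y y n).symm⟩

/-- Where the relative degree is bounded by `N`, a finite fibre depth is at most `N`. -/
theorem fdepth_le_of_bound {U : Set X} (hU : IsOpen U) {N : ℕ} (hN : ∀ z ∈ U, FibDim.rd f z ≤ N) {t : X}
    (ht : t ∈ U) : fdepth f F t = ⊤ ∨ fdepth f F t ≤ N := by
  haveI := AssDimLoci.isLocallyNoetherian_fiber f (f t)
  rcases subsingleton_or_nontrivial ((Fib f F (f t)).presheaf.stalk (f.asFiber t)) with h | h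
  · exact Or.inl (FlatLoc6.depth_top_of_subsingleton _)
  · refine Or.inr ?_
    haveI := Codepth5.finite_fibre_stalk f F hF (f t) (f.asFiber t)
    have hd := LC.depth_le_supportDim (R := (f.fiber (f t)).presheaf.stalk (f.asFiber t))
      (M := (Fib f F (f t)).presheaf.stalk (f.asFiber t))
    have hs := (AssDimLoci.supportDim_le_iff f F hF (f t) (f.asFiber t) N).2 fun z hz hg => by
      rw [f.fiberι_asFiber] at hg ⊢
      exact (hN z (hg.1.mem_open hU ht)).trans (Nat.le_add_left _ _)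
    exact WithBot.coe_le_coe.1 ((hd.trans hs).trans le_rfl)

theorem fiberDepthAlong_le_of_bound {U : Set X} (hU : IsOpen U) {N : ℕ} (hN : ∀ z ∈ U, FibDim.rd f z ≤ N)
    (Y : Set X) {y : X} (hy : y ∈ U) :
    CInt.fiberDepthAlong f F Y y = ⊤ ∨ CInt.fiberDepthAlong f F Y y ≤ N := by
  by_cases h : ∀ z : {z : X // z ∈ Y ∧ z ⤳ y ∧ f.base z = f.base y}, fdepth f F z.1 = ⊤
  · exact Or.inl (iInf_eq_top.2 h)
  · obtain ⟨z, hz⟩ := not_forall.1 h
    exact Or.inr ((iInf_le (fun z : {z : X // z ∈ Y ∧ z ⤳ y ∧ f.base z = f.base y} => CInt.fiberDepth f F z.1) z).trans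
      ((fdepth_le_of_bound f F hF hU hN (z.2.2.1.mem_open hU hy)).resolve_left hz))

theorem fiberDepthAlong_locallyConstructibleFun (Y : TopologicalSpace.Closeds ↥X)
    (hY : IsLocallyConstructible (Y : Set ↥X)) (y₀ : ↥(Y : Set ↥X)) :
    ∃ V : TopologicalSpace.Opens ↥(Y : Set ↥X), y₀ ∈ V ∧
      ((fun y : ↥(Y : Set ↥X) => CInt.fiberDepthAlong f F (Y : Set ↥X) y.1) '' (V : Set ↥(Y : Set ↥X))).Finite ∧
      ∀ t : ℕ∞, IsConstructible
        {v : ↥V | CInt.fiberDepthAlong f F (Y : Set ↥X) v.1.1 = t} := by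
  obtain ⟨U₀, N, hU₀, hyU₀, hN₀⟩ := AssDimLoci.exists_bound f y₀.1
  obtain ⟨U, hU, hyU, hUU₀⟩ := exists_isAffineOpen_mem_and_subset (U := ⟨U₀, hU₀⟩) hyU₀
  have hN : ∀ z ∈ (U : Set X), FibDim.rd f z ≤ N := fun z hz => hN₀ z (hUU₀ hz)
  refine ⟨⟨Subtype.val ⁻¹' (U : Set X), U.2.preimage continuous_subtype_val⟩, hyU, ?_, ?_⟩
  · refine Set.Finite.subset (((Set.finite_Iic N).image (fun k : ℕ => (k : ℕ∞))).insert ⊤) ?_
    rintro _ ⟨y, hy, rfl⟩
    rcases fiberDepthAlong_le_of_bound f F hF U.2 hN (Y : Set X) (y := y.1) hy with h | h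
    · exact Or.inl h
    · obtain ⟨k, hk⟩ := ENat.ne_top_iff_exists.1 (ne_top_of_le_ne_top (ENat.coe_ne_top N) h)
      refine Or.inr ⟨k, ?_, hk⟩
      rw [← hk] at h
      exact Set.mem_Iic.2 (by exact_mod_cast h)
  · intro t
    let G : ℕ → Set X := fun k => {y : X | (k : ℕ∞) ≤ CInt.fiberDepthAlong f F (Y : Set ↥X) y}
    have hG : ∀ k, IsLocallyConstructible (G k) := fun k =>
      isLocallyConstructible_le_fiberDepthAlong f F hF hY k
    obtain ⟨L, hL, hLt⟩ : ∃ L : Set X, IsLocallyConstructible L ∧ ∀ y ∈ (U : Set X),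
        (CInt.fiberDepthAlong f F (Y : Set ↥X) y = t ↔ y ∈ L) := by
      induction t using ENat.recTopCoe with
      | top =>
        refine ⟨G (N + 1), hG _, fun y hy => ⟨fun h => ?_, fun h => ?_⟩⟩
        · show ((N + 1 : ℕ) : ℕ∞) ≤ CInt.fiberDepthAlong f F (Y : Set ↥X) y
          rw [h]
          exact le_top
        · refine (fiberDepthAlong_le_of_bound f F hF U.2 hN (Y : Set X) hy).resolve_right fun hle => ?_
          have h2 : ((N + 1 : ℕ) : ℕ∞) ≤ (N : ℕ∞) := le_trans h hle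
          norm_cast at h2
          omega
      | coe k =>
        refine ⟨G k \ G (k + 1), IsLocallyConstructible.inter (hG k) (isLocallyConstructible_compl' (hG (k + 1))), fun y _ => ?_⟩
        show _ = (k : ℕ∞) ↔ (k : ℕ∞) ≤ _ ∧ ¬ ((k + 1 : ℕ) : ℕ∞) ≤ _
        generalize CInt.fiberDepthAlong f F (Y : Set ↥X) y = a
        induction a using ENat.recTopCoe with
        | top => simp
        | coe a =>
          norm_cast
          omega
    haveI : IsAffine (U : Scheme.{u}) := hU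
    have hLc : IsConstructible (U.ι ⁻¹' L : Set (U : Scheme.{u})) :=
      (hL.preimage_of_isOpenEmbedding U.ι.isOpenEmbedding).isConstructible
    have hYc : IsCompact (U.ι ⁻¹' (Y : Set X) : Set (U : Scheme.{u}))ᶜ :=
      NisCov7.isCompact_of_isConstructible (hY.preimage_of_isOpenEmbedding U.ι.isOpenEmbedding).isConstructible.compl
    have hg : IsClosedEmbedding ((U : Set X).restrictPreimage (Subtype.val : ↥(Y : Set X) → X)) :=
      (Y.2.isClosedEmbedding_subtypeVal).restrictPreimage _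
    have hr : Set.range ((U : Set X).restrictPreimage (Subtype.val : ↥(Y : Set X) → X)) =
        (Subtype.val ⁻¹' (Y : Set X) : Set ↥(U : Set X)) := by
      rw [Set.range_restrictPreimage, Subtype.range_coe]
    have hc := hLc.preimage_of_isClosedEmbedding hg (hr.symm ▸ hYc)
    exact Eq.subst (motive := IsConstructible) (Set.ext fun v => (hLt v.1.1 v.2).symm) hc

end Groth.Agent.GenRdCons
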