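import Groth.Agent.GenRdCons.AssFibre

/-!
# The associated cycles of the fibres near the generic point of the base
-/

set_option autoImplicit false
set_option linter.style.haveILetI false
set_option linter.unusedSectionVars false
set_option linter.deprecated false
set_option backward.isDefEq.respectTransparency false
set_option backward.isDefEq.respectTransparency.types false

universe u

open CategoryTheory AlgebraicGeometry Topology
open Groth.Agent.AssDimLoci (Gen fdepth Fib)

namespace Groth.Agent.GenRdCons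

theorem isLocallyConstructible_of_isClosed {Z : Type*} [TopologicalSpace Z] [TopologicalSpace.NoetherianSpace Z]
    {C : Set Z} (hC : IsClosed C) : IsLocallyConstructible C := by
  have h : IsRetrocompact Cᶜ := fun V _ _ => TopologicalSpace.NoetherianSpace.isCompact _
  exact (IsConstructible.of_compl (h.isConstructible hC.isOpen_compl)).isLocallyConstructible

variable {X S : Scheme.{u}} [IsIntegral S] [IsNoetherian S] (f : X ⟶ S) [LocallyOfFiniteType f] [QuasiCompact f]
  (F : X.Modules) (hF : CohB1.IsFP F)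

/-- The associated points of the generic fibre. -/
def genAss : Set X := {x | f x = genericPoint S ∧ fdepth f F x = 0}

include hF

theorem finite_genAss : (genAss f F).Finite := by
  haveI : IsLocallyNoetherian X := LocallyOfFiniteType.isLocallyNoetherian f
  haveI : LocallyOfFinitePresentation f := inferInstance
  haveI := AssDimLoci.isLocallyNoetherian_fiber f (genericPoint S)
  have h := AssPtX.finite_assPoints (F := Fib f F (genericPoint S))
    ⟨AssDimLoci.isQCoh_fib f F hF _, AssDimLoci.isFT_fib f F hF _⟩ (U := ⊤) isCompact_univ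
  refine (h.image (f.fiberι (genericPoint S))).subset fun x hx => ?_
  obtain ⟨z, rfl⟩ : x ∈ Set.range (f.fiberι (genericPoint S)) := by rw [Scheme.Hom.range_fiberι]; exact hx.1
  exact ⟨z, ⟨trivial, (AssDimLoci.mem_ass_iff f F hF _ z).2 hx.2⟩, rfl⟩

/-- Near the generic fibre the associated cycles of the fibre modules are the components of the traces
of the associated cycles of the generic fibre. -/
theorem exists_nhd_cycles :
    ∃ U : S.Opens, genericPoint S ∈ U ∧ ∀ t : X, f t ∈ U →
      (fdepth f F t = 0 → ∃ x ∈ genAss f F, x ⤳ t ∧ FibDim.rd f t = FibDim.rd f x) ∧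
      ∀ x ∈ genAss f F, x ⤳ t → (∀ t', x ⤳ t' → Gen f t t' → t' = t) →
        FibDim.rd f t = FibDim.rd f x ∧ fdepth f F t = 0 ∧ ∀ x' ∈ genAss f F, x' ⤳ t → x' ⤳ x := by
  haveI : IsLocallyNoetherian X := LocallyOfFiniteType.isLocallyNoetherian f
  haveI : CompactSpace X := QuasiCompact.compactSpace_of_compactSpace f
  haveI : IsNoetherian X := {}
  haveI : LocallyOfFinitePresentation f := inferInstance
  have hfin := finite_genAss f F hF
  -- a locally constructible subset of `X` missing the generic fibre misses the fibres nearby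
  have avoid : ∀ A : Set X, IsLocallyConstructible A → (∀ x ∈ A, f x ≠ genericPoint S) →
      ∃ W : Set S, IsOpen W ∧ genericPoint S ∈ W ∧ ∀ x ∈ A, f x ∉ W := fun A hA h =>
    ConsPropLib.image_avoid f hA.isConstructible h
  -- specializations inside the generic fibre lose degree
  have below : ∀ x : X, f x = genericPoint S → ∀ t : X, x ⤳ t → f t = genericPoint S →
      FibDim.rd f x ≤ FibDim.rd f t → t = x := fun x hx t hxt ht hle => by
    by_contra hne
    have := FibDim.rd_lt f hxt (Ne.symm hne) (hx.trans ht.symm)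
    omega
  let C : ℕ → Set X := fun d => ⋃ x ∈ genAss f F ∩ {x | FibDim.rd f x = d}, closure {x}
  have hC : ∀ d, IsLocallyConstructible (C d) := fun d =>
    IsLocallyConstructible.biUnion (hfin.inter_of_left _) fun x _ => isLocallyConstructible_of_isClosed isClosed_closure
  obtain ⟨W₁, oW₁, ηW₁, hW₁⟩ := avoid (GenA f F fun d => (C d)ᶜ)
    (isLocallyConstructible_genA f F hF fun d => isLocallyConstructible_compl' (hC d))
    (by
      rintro y ⟨t, ht, hg, hd⟩ hy
      exact ht (Set.mem_iUnion₂.2 ⟨t, ⟨⟨hg.2.trans hy, hd⟩, rfl⟩, subset_closure rfl⟩))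
  choose W₂ oW₂ ηW₂ hW₂ using fun x : genAss f F => ConsPropLib.exists_nhd_rd_eq f x.2.1
  choose W₃ oW₃ ηW₃ hW₃ using fun x : genAss f F => avoid
    (B f (closure {x.1} ∩ (rectLE f F (FibDim.rd f x.1))ᶜ) (FibDim.rd f x.1))
    (isLocallyConstructible_B f ((isLocallyConstructible_of_isClosed isClosed_closure).inter
      (isLocallyConstructible_compl' (isLocallyConstructible_rectLE f F hF _))) _)
    (by
      rintro y ⟨t, ⟨htZ, htR⟩, hg, hm⟩ hy
      obtain rfl := below x.1 x.2.1 t (specializes_iff_mem_closure.2 htZ) (hg.2.trans hy) hm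
      exact htR (show fdepth f F _ + _ ≤ _ by rw [x.2.2, zero_add]))
  choose W₄ oW₄ ηW₄ hW₄ using fun p : {p : ↥(genAss f F) × ↥(genAss f F) // ¬ p.2.1 ⤳ p.1.1} => avoid
    (B f (closure {p.1.1.1} ∩ closure {p.1.2.1}) (FibDim.rd f p.1.1.1))
    (isLocallyConstructible_B f ((isLocallyConstructible_of_isClosed isClosed_closure).inter
      (isLocallyConstructible_of_isClosed isClosed_closure)) _)
    (by
      rintro y ⟨t, ⟨htZ, htZ'⟩, hg, hm⟩ hy
      obtain rfl := below p.1.1.1 p.1.1.2.1 t (specializes_iff_mem_closure.2 htZ) (hg.2.trans hy) hm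
      exact p.2 (specializes_iff_mem_closure.2 htZ'))
  haveI : Finite ↥(genAss f F) := hfin.to_subtype
  refine ⟨⟨W₁ ∩ (⋂ x, W₂ x) ∩ (⋂ x, W₃ x) ∩ ⋂ p, W₄ p,
    ((oW₁.inter (isOpen_iInter_of_finite oW₂)).inter (isOpen_iInter_of_finite oW₃)).inter (isOpen_iInter_of_finite oW₄)⟩,
    ⟨⟨⟨ηW₁, Set.mem_iInter.2 ηW₂⟩, Set.mem_iInter.2 ηW₃⟩, Set.mem_iInter.2 ηW₄⟩, ?_⟩
  rintro t ⟨⟨⟨h₁, h₂⟩, h₃⟩, h₄⟩
  refine ⟨fun hd => ?_, fun x hx hxt hmax => ?_⟩
  · have ht : t ∈ C (FibDim.rd f t) := by
      by_contra hn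
      exact hW₁ t ⟨t, hn, Gen.refl f t, hd⟩ h₁
    obtain ⟨x, ⟨hx, he⟩, hxt⟩ := Set.mem_iUnion₂.1 ht
    exact ⟨x, hx, specializes_iff_mem_closure.2 hxt, Eq.symm he⟩
  · have he : FibDim.rd f t = FibDim.rd f x :=
      hW₂ ⟨x, hx⟩ t hxt (Set.mem_iInter.1 h₂ _) fun y' h1 h2 h3 => hmax y' h1 ⟨h2, h3⟩
    refine ⟨he, ?_, fun x' hx' hx't => ?_⟩
    · have hr : t ∈ rectLE f F (FibDim.rd f x) := by
        by_contra hn
        exact hW₃ ⟨x, hx⟩ t ⟨t, ⟨specializes_iff_mem_closure.1 hxt, hn⟩, Gen.refl f t, he.ge⟩ (Set.mem_iInter.1 h₃ _)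
      have hr' : fdepth f F t + (FibDim.rd f t : ℕ∞) ≤ (FibDim.rd f x : ℕ) := hr
      rw [he] at hr'
      generalize fdepth f F t = b at hr'
      induction b using ENat.recTopCoe with
      | top => simp at hr'
      | coe b =>
        have h : b + FibDim.rd f x ≤ FibDim.rd f x := by exact_mod_cast hr'
        exact_mod_cast (show b = 0 by omega)
    · by_contra hn
      exact hW₄ ⟨(⟨x, hx⟩, ⟨x', hx'⟩), hn⟩ t
        ⟨t, ⟨specializes_iff_mem_closure.1 hxt, specializes_iff_mem_closure.1 hx't⟩, Gen.refl f t, he.ge⟩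
        (Set.mem_iInter.1 h₄ _)

end Groth.Agent.GenRdCons
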