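import Groth.Agent.GenRdCons.Basic

/-!
# The general case
-/

set_option autoImplicit false
set_option linter.style.haveILetI false
set_option linter.unusedSectionVars false

universe u

open CategoryTheory CategoryTheory.Limits AlgebraicGeometry Topology
open Groth.Agent.AssDimLoci (Gen)

namespace Groth.Agent.GenRdCons

variable {X S : Scheme.{u}}

theorem isConstructible_B_affine [IsAffine X] [IsAffine S] (g : X ⟶ S) [LocallyOfFinitePresentation g]
    {E : Set X} (hE : IsConstructible E) (m : ℕ) : IsConstructible (B g E m) := by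
  obtain ⟨I, _, _, D, c, hlim, e, hA, hN⟩ := ConsPropLib.exists_noetherian_limit S
  haveI := hA
  haveI : ∀ {i j : I} (a : i ⟶ j), IsAffineHom (D.map a) := fun a => isAffineHom_of_isAffine _
  obtain ⟨i, X₀, f₀, g₀, hm⟩ := ConsPropLib.hasModel hlim (g ≫ e.inv)
  haveI := hm.compactSpace
  haveI := hm.quasiSeparatedSpace
  let T : Over i := Over.mk (𝟙 i)
  haveI : ∀ {a b : Over i} (φ : a ⟶ b), IsAffineHom ((MorLib.BC.diag D f₀).map φ) := fun φ =>
    MorLib.BC.isAffineHom_map D f₀ φ
  haveI : CompactSpace ↥((MorLib.BC.diag D f₀).obj T) := MorLib.BC.compactSpace_obj D f₀ T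
  haveI : QuasiSeparatedSpace ↥((MorLib.BC.diag D f₀).obj T) := MorLib.BC.quasiSeparatedSpace_obj D f₀ T
  obtain ⟨j₁, a₁, Z₁, hZ₁, eZ₁⟩ := MorLib.LimCons.exists_isConstructible_preimage_eq
    (MorLib.BC.isLimitCone D f₀ hm.sq hlim) T hE
  let qk : X ⟶ pullback f₀ (D.map j₁.hom) := MorLib.BC.proj D f₀ hm.sq j₁
  have sqk : IsPullback qk g (pullback.snd f₀ (D.map j₁.hom)) (e.inv ≫ c.π.app j₁.left) :=
    (MorLib.BC.isPullback_proj D f₀ hm.sq j₁).of_iso (Iso.refl _) (Iso.refl _) e (Iso.refl _)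
      (by simp [qk]) (by simp) (by simp) (by simp)
  haveI := hN j₁.left
  haveI : LocallyOfFinitePresentation (pullback.snd f₀ (D.map j₁.hom)) := (hm.pushed j₁.hom).lfp
  haveI hft : LocallyOfFiniteType (pullback.snd f₀ (D.map j₁.hom)) := inferInstance
  haveI := (hm.pushed j₁.hom).qc
  haveI : CompactSpace ↥(pullback f₀ (D.map j₁.hom)) := MorLib.BC.compactSpace_obj D f₀ j₁
  haveI : QuasiSeparatedSpace ↥(pullback f₀ (D.map j₁.hom)) := MorLib.BC.quasiSeparatedSpace_obj D f₀ j₁
  haveI : IsLocallyNoetherian (pullback f₀ (D.map j₁.hom) : Scheme.{u}) :=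
    LocallyOfFiniteType.isLocallyNoetherian (pullback.snd f₀ (D.map j₁.hom))
  haveI : IsNoetherian (pullback f₀ (D.map j₁.hom) : Scheme.{u}) := {}
  haveI : IsAffineHom (e.inv ≫ c.π.app j₁.left) := @isAffineHom_of_isAffine _ _ _ inferInstance (hA j₁.left)
  haveI : IsAffineHom qk := MorphismProperty.of_isPullback (P := @IsAffineHom) sqk.flip inferInstance
  have h : B g E m = qk ⁻¹' B (pullback.snd f₀ (D.map j₁.hom)) Z₁ m := by
    have hZ : qk ⁻¹' Z₁ = E := eZ₁
    exact (congrArg (fun A => B g A m) hZ.symm).trans (@B_baseChange _ _ _ _ _ _ _ _ hft sqk Z₁ m)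
  rw [h]
  exact MorLib.LimCons.isConstructible_preimage qk (@isConstructible_B_noetherian _ _ (pullback.snd f₀ (D.map j₁.hom)) hft _ _ _ _ _ hZ₁ m)

/-- Composition with a monomorphism of the base. -/
theorem B_comp_mono {Z : Scheme.{u}} (q : X ⟶ S) (e : S ⟶ Z) [Mono e] [LocallyOfFiniteType (q ≫ e)]
    (E : Set X) (m : ℕ) : B (q ≫ e) E m = B q E m := by
  have h : IsPullback (𝟙 X) q (q ≫ e) e :=
    IsPullback.mk ⟨by simp⟩ ⟨PullbackCone.IsLimit.mk _
      (fun s => s.fst) (fun s => by simp) (fun s => (cancel_mono e).1 (by rw [Category.assoc]; exact s.condition))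
      (fun s m h1 _ => by simpa using h1)⟩
  exact (B_baseChange h E m).symm

/-- The points with a generization of large relative degree in a constructible set form a constructible set. -/
theorem isLocallyConstructible_B (f : X ⟶ S) [LocallyOfFinitePresentation f] {E : Set X}
    (hE : IsLocallyConstructible E) (m : ℕ) : IsLocallyConstructible (B f E m) := by
  intro x
  obtain ⟨V, hV, hxV, -⟩ := exists_isAffineOpen_mem_and_subset (U := (⊤ : S.Opens)) (x := f x) trivial
  obtain ⟨U, hU, hxU, hUV'⟩ := exists_isAffineOpen_mem_and_subset (U := f ⁻¹ᵁ V) (x := x) hxV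
  have hUV : U ≤ f ⁻¹ᵁ V := hUV'
  refine ⟨U, U.2.mem_nhds hxU, U.2, ?_⟩
  haveI : IsAffine (U : Scheme.{u}) := hU
  haveI : IsAffine (V : Scheme.{u}) := hV
  let g := f.resLE V U hUV
  haveI : LocallyOfFinitePresentation g := inferInstance
  have hgf : g ≫ V.ι = U.ι ≫ f := f.resLE_comp_ι hUV
  haveI : LocallyOfFiniteType (g ≫ V.ι) := hgf ▸ inferInstance
  show IsConstructible (U.ι ⁻¹' B f E m : Set (U : Scheme.{u}))
  rw [← B_opens f U E m, ← hgf, B_comp_mono g V.ι]
  exact isConstructible_B_affine g (hE.preimage_of_isOpenEmbedding U.ι.isOpenEmbedding).isConstructible m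

end Groth.Agent.GenRdCons
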