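import Groth.Agent.GenRdCons.LC
import Groth.Agent.GeomNormCons.Crit
import Groth.Agent.FibDim.LocDim
import Groth.Agent.AssDimLoci.Dict

/-!
# Constructible loci of the fibres: equidimensionality and the geometric condition `(R_n)`
-/

set_option autoImplicit false
set_option linter.style.haveILetI false
set_option linter.unusedSectionVars false
set_option linter.deprecated false
set_option backward.isDefEq.respectTransparency false
set_option backward.isDefEq.respectTransparency.types false

universe u

open CategoryTheory CategoryTheory.Limits AlgebraicGeometry Topology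
open Groth.Agent.AssDimLoci (Gen)

noncomputable section

namespace Groth.Agent.GenRdCons

variable {X S : Scheme.{u}} (f : X ⟶ S) [LocallyOfFinitePresentation f]

theorem isLocallyConstructible_fibreDimAt_le (n : ℕ) : IsLocallyConstructible {x : X | FlatMor.fibreDimAt f x ≤ n} :=
  ((FibDim.isRetrocompact_setOf_fibreDimAt_le f n).isConstructible (FibDim.isOpen_fibreDimAt_le f n)).isLocallyConstructible

/-- A union over all degrees is locally finite. -/
theorem isLocallyConstructible_iUnion_B (E : ℕ → Set X) (hE : ∀ m, IsLocallyConstructible (E m)) :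
    IsLocallyConstructible {x : X | ∃ m, x ∈ B f (E m) m} := by
  intro x
  obtain ⟨U, N, hU, hxU, hN⟩ := AssDimLoci.exists_bound f x
  have hfin : IsLocallyConstructible (⋃ m ∈ Set.Iic N, B f (E m) m) :=
    IsLocallyConstructible.biUnion (Set.finite_Iic N) fun m _ => isLocallyConstructible_B f (hE m) m
  obtain ⟨W, hxW, hW, hc⟩ := hfin x
  refine ⟨U ∩ W, Filter.inter_mem (hU.mem_nhds hxU) hxW, hU.inter hW, ?_⟩
  have hc' := hc.preimage_of_isOpenEmbedding (f := Set.inclusion (Set.inter_subset_right : U ∩ W ⊆ W))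
    (.inclusion _ <| .preimage continuous_subtype_val <| hU.inter hW)
  refine Eq.subst (motive := IsConstructible) (Set.ext fun y => ?_) hc'
  show y.1 ∈ (⋃ m ∈ Set.Iic N, B f (E m) m) ↔ ∃ m, y.1 ∈ B f (E m) m
  refine ⟨fun h => ?_, ?_⟩
  · obtain ⟨m, -, hm⟩ := Set.mem_iUnion₂.1 h
    exact ⟨m, hm⟩
  · rintro ⟨m, t, ht, hg, hm⟩
    exact Set.mem_iUnion₂.2 ⟨m, hm.trans (hN t (hg.1.mem_open hU y.2.1)), t, ht, hg, hm⟩

/-- The points of the fibres which are not smooth. -/
def nsm : Set X := {x | ¬ FibreLoc5.SmFib f x}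

theorem isLocallyConstructible_nsm : IsLocallyConstructible (nsm f) :=
  FibreLoc5.lc_compl (FibreLoc5.isLocallyConstructible_smFib f)

omit [LocallyOfFinitePresentation f] in
theorem mem_smoothLocus_fibre_iff [LocallyOfFiniteType f] (y : S) (w : ↥(f.fiber y))
    [LocallyOfFinitePresentation (f.fiberToSpecResidueField y)] :
    w ∈ (f.fiberToSpecResidueField y).smoothLocus ↔ f.fiberι y w ∉ nsm f := by
  have key : ∀ (x : X), f.fiberι y w = x → (w ∈ (f.fiberToSpecResidueField y).smoothLocus ↔ FibreLoc5.SmFib f x) := by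
    rintro x rfl
    have hz := AssDimLoci.apply_fiberι f y w
    generalize hx : f.fiberι y w = x at hz
    subst hz
    obtain rfl : w = f.asFiber x := (f.fiberι (f x)).isEmbedding.injective (hx.trans (f.fiberι_asFiber x).symm)
    exact Scheme.Hom.mem_smoothLocus
  exact (key _ rfl).trans not_not.symm

/-- The geometric condition `(R_n)` of the fibre at a point, through generizations. -/
def Bad (n : ℕ) : Set X :=
  {x | ∃ m, x ∈ B f (nsm f ∩ {t | FlatMor.fibreDimAt f t ≤ (m + n : ℕ)}) m}

theorem isLocallyConstructible_bad (n : ℕ) : IsLocallyConstructible (Bad f n) :=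
  isLocallyConstructible_iUnion_B f _ fun m =>
    (isLocallyConstructible_nsm f).inter (isLocallyConstructible_fibreDimAt_le f (m + n))

theorem rkC_fibre_iff (n : ℕ) (y : S) (w : ↥(f.fiber y))
    [LocallyOfFinitePresentation (f.fiberToSpecResidueField y)] :
    GeomNormCons.RkC (k := (IsLocalRing.ResidueField (S.presheaf.stalk y) : Type u)) (f.fiberToSpecResidueField y) n w ↔
      f.fiberι y w ∉ Bad f n := by
  constructor
  · rintro h ⟨m, t, ⟨hts, htd⟩, hg, hm⟩
    obtain ⟨z, rfl⟩ := AssDimLoci.exists_fiberι_eq f hg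
    refine (mem_smoothLocus_fibre_iff f y z).1 (h z ((AssDimLoci.gen_fiberι_iff f y w z).1 hg) ?_) hts
    refine (AssDimLoci.dim_stalk_fiber_le_iff f y z n).2 fun t' ht' => ?_
    have := (FibDim.fibreDimAt_le_iff f _ (m + n)).1 htd t' ht'.1 ht'.2
    omega
  · intro h z hz hd
    by_contra hns
    refine h ⟨FibDim.rd f (f.fiberι y z), f.fiberι y z, ⟨?_, ?_⟩, (AssDimLoci.gen_fiberι_iff f y w z).2 hz, le_rfl⟩
    · exact not_not.1 fun hh => hns ((mem_smoothLocus_fibre_iff f y z).2 hh)
    · exact (FibDim.fibreDimAt_le_iff f _ _).2 fun t' h1 h2 =>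
        (AssDimLoci.dim_stalk_fiber_le_iff f y z n).1 hd t' ⟨h1, h2⟩

/-- Geometric `(R_n)` of the fibre, through all extensions of the field. -/
theorem geomRk_all_iff (n : ℕ) (y : S) (w : ↥(f.fiber y)) :
    (∀ (K : Type u) [Field K] [Algebra (IsLocalRing.ResidueField (S.presheaf.stalk y)) K]
        (x' : ↥(FBase.bc (f.fiberToSpecResidueField y) K)),
        (FBase.bcπ (f.fiberToSpecResidueField y) K).base x' = w →
          LocCoh.HasRk n ((FBase.bc (f.fiberToSpecResidueField y) K).presheaf.stalk x')) ↔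
      f.fiberι y w ∉ Bad f n := by
  haveI := FibreLoc5.lfp_fibre f y
  refine Iff.trans ?_ (rkC_fibre_iff f n y w)
  constructor
  · intro h
    exact (AssDimLoci.geomRk_iff (k := (IsLocalRing.ResidueField (S.presheaf.stalk y) : Type u))
      (f.fiberToSpecResidueField y) n w).1 fun K _ _ _ => h K
  · intro h K _ _ x' hx'
    let q := f.fiberToSpecResidueField y
    haveI : LocallyOfFiniteType (FBase.bcStr q K) := MorphismProperty.pullback_snd _ _ inferInstance
    haveI : LocallyOfFinitePresentation (FBase.bcStr q K) := FibreLoc5.lfp_of_noetherian' _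
    haveI : Flat (Spec.map (CommRingCat.ofHom (algebraMap (IsLocalRing.ResidueField (S.presheaf.stalk y)) K))) :=
      Flat.SpecMap_iff.2 (RingHom.flat_algebraMap_iff.2 inferInstance)
    refine (AssDimLoci.hasRk_stalk_iff x' n).2 fun t ht hd => ?_
    exact SmoothReg.isRegularLocalRing_stalk_of_mem_smoothLocus (FBase.bcStr q K)
      ((GeomNormCons.rkC_iff (k := (IsLocalRing.ResidueField (S.presheaf.stalk y) : Type u))
        (IsPullback.of_hasPullback q _) n x').2 (hx' ▸ h) t ht hd)

/-- The points through which passes a component of the fibre of dimension `d`. -/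
def HasComp (d : ℕ) : Set X := B f {t | FlatMor.fibreDimAt f t ≤ d} d

theorem isLocallyConstructible_hasComp (d : ℕ) : IsLocallyConstructible (HasComp f d) :=
  isLocallyConstructible_B f (isLocallyConstructible_fibreDimAt_le f d) d

theorem mem_hasComp_iff (d : ℕ) (x : X) :
    x ∈ HasComp f d ↔ ∃ t, Gen f x t ∧ FibDim.FibMax f t ∧ FibDim.rd f t = d := by
  constructor
  · rintro ⟨t, ht, hg, hm⟩
    have hle := (FibDim.fibreDimAt_le_iff f t d).1 ht
    have := hle t specializes_rfl rfl
    refine ⟨t, hg, fun z' h1 h2 => ?_, by omega⟩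
    by_contra hne
    have := FibDim.rd_lt f h1 hne h2
    have := hle z' h1 h2
    omega
  · rintro ⟨t, hg, hmax, rfl⟩
    exact ⟨t, (FibDim.fibreDimAt_eq_rd f hmax).le.trans (by exact_mod_cast le_rfl), hg, le_rfl⟩

/-- A set which locally agrees with constructible sets indexed by a bound for the degrees. -/
theorem isLocallyConstructible_of_bounded {E : Set X} (G : ℕ → Set X) (hG : ∀ N, IsLocallyConstructible (G N))
    (h : ∀ N x, (∀ t, Gen f x t → FibDim.rd f t ≤ N) → (x ∈ G N ↔ x ∈ E)) : IsLocallyConstructible E := by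
  intro x
  obtain ⟨U, N, hU, hxU, hN⟩ := AssDimLoci.exists_bound f x
  obtain ⟨W, hxW, hW, hc⟩ := hG N x
  refine ⟨U ∩ W, Filter.inter_mem (hU.mem_nhds hxU) hxW, hU.inter hW, ?_⟩
  have hc' := hc.preimage_of_isOpenEmbedding (f := Set.inclusion (Set.inter_subset_right : U ∩ W ⊆ W))
    (.inclusion _ <| .preimage continuous_subtype_val <| hU.inter hW)
  refine Eq.subst (motive := IsConstructible) (Set.ext fun y => ?_) hc'
  exact h N y.1 fun t hg => hN t (hg.1.mem_open hU y.2.1)

theorem isLocallyConstructible_equidim :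
    IsLocallyConstructible {x : X | ∃ e : ℕ,
      ∀ Z ∈ irreducibleComponents (↥(f.fiber (f.base x)) : Type u), f.asFiber x ∈ Z →
        topologicalKrullDim (↥Z : Type u) = e} := by
  refine isLocallyConstructible_of_bounded f
    (fun N => ⋃ d ∈ Set.Iic N, (⋂ i : Fin (N + 1), if i.1 = d then Set.univ else (HasComp f i.1)ᶜ)) (fun N => ?_) ?_
  · refine IsLocallyConstructible.biUnion (Set.finite_Iic N) fun d _ => IsLocallyConstructible.iInter fun i => ?_
    split_ifs
    · exact IsLocallyConstructible.univ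
    · exact FibreLoc5.lc_compl (isLocallyConstructible_hasComp f i.1)
  · intro N x hN
    have key : ∀ e : ℕ, (∀ Z ∈ irreducibleComponents (↥(f.fiber (f.base x)) : Type u), f.asFiber x ∈ Z →
        topologicalKrullDim (↥Z : Type u) = e) ↔ ∀ d, x ∈ HasComp f d → d = e := by
      intro e
      constructor
      · intro h d hd
        obtain ⟨t, hg, hmax, rfl⟩ := (mem_hasComp_iff f d x).1 hd
        obtain ⟨z, rfl⟩ := AssDimLoci.exists_fiberι_eq f (y := f x) (w := f.asFiber x)
          (by rw [f.fiberι_asFiber]; exact hg)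
        have hzx : z ⤳ f.asFiber x := (AssDimLoci.gen_fiberι_iff f (f x) (f.asFiber x) z).1
          (by rw [f.fiberι_asFiber]; exact hg)
        have := h _ (FDescent.closure_mem_irreducibleComponents ((FibDim.fibMax_fiberι_iff f z).1 hmax)) hzx.mem_closure
        rw [AssDimLoci.dim_closure f (f x) z] at this
        exact_mod_cast this
      · intro h Z hZ hxZ
        obtain ⟨z, rfl, hz⟩ := FDescent.exists_maximal_of_mem_irreducibleComponents hZ
        rw [AssDimLoci.dim_closure f (f x) z,
          h _ ((mem_hasComp_iff f _ x).2 ⟨f.fiberι (f x) z, ?_, (FibDim.fibMax_fiberι_iff f z).2 hz, rfl⟩)]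
        · rfl
        · have := (AssDimLoci.gen_fiberι_iff f (f x) (f.asFiber x) z).2 (specializes_iff_mem_closure.2 hxZ)
          rwa [f.fiberι_asFiber] at this
    have hle : ∀ d, x ∈ HasComp f d → d ≤ N := fun d hd => by
      obtain ⟨t, hg, -, rfl⟩ := (mem_hasComp_iff f d x).1 hd
      exact hN t hg
    obtain ⟨t, -, hg, hmax, -⟩ := AssDimLoci.exists_maximal f (S := Set.univ) (Set.mem_univ x)
    have h0 : x ∈ HasComp f (FibDim.rd f t) :=
      (mem_hasComp_iff f _ x).2 ⟨t, hg, fun z h1 h2 => hmax z trivial ⟨h1, h2⟩, rfl⟩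
    simp only [Set.mem_ofPred_eq, key]
    constructor
    · intro hx
      obtain ⟨d, -, hx⟩ := Set.mem_iUnion₂.1 hx
      refine ⟨d, fun d' hd' => ?_⟩
      have := Set.mem_iInter.1 hx ⟨d', Nat.lt_succ_of_le (hle d' hd')⟩
      split_ifs at this with hh
      · exact hh
      · exact absurd hd' this
    · rintro ⟨e, he⟩
      obtain rfl := he _ h0
      refine Set.mem_iUnion₂.2 ⟨_, hle _ h0, Set.mem_iInter.2 fun i => ?_⟩
      split_ifs with hh
      · trivial
      · exact fun hi => hh (he _ hi)

end Groth.Agent.GenRdCons
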