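import Groth.Agent.GenRdCons.AssFibre

/-!
# Torsion and torsion-free modules on locally integral schemes
-/

set_option autoImplicit false
set_option linter.style.haveILetI false
set_option linter.unusedSectionVars false
set_option linter.deprecated false
set_option backward.isDefEq.respectTransparency false
set_option backward.isDefEq.respectTransparency.types false

universe u

open CategoryTheory AlgebraicGeometry Topology IsLocalRing
open Groth.Agent.AssDimLoci (Gen fdepth Fib)

namespace Groth.Agent.GenRdCons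

section Local

variable {W : Scheme.{u}} {x : W} [IsDomain (W.presheaf.stalk x)] {U : W.Opens} (hU : IsAffineOpen U) (hx : x ∈ U)

/-- The kernel of the germ map is the smallest prime below the point. -/
theorem ker_germ_le {z : W} (hz : z ∈ U) (h : z ⤳ x) :
    (⊥ : Ideal (W.presheaf.stalk x)).comap (W.presheaf.germ U x hx).hom ≤ (hU.primeIdealOf ⟨z, hz⟩).asIdeal := by
  letI := QCoh.stalkAlg (X := W) hx
  haveI := QCoh.isLocalization_stalk' hU hx
  intro r hr
  obtain ⟨c, hc⟩ := (IsLocalization.map_eq_zero_iff (hU.primeIdealOf ⟨x, hx⟩).asIdeal.primeCompl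
    (W.presheaf.stalk x) r).1 hr
  exact ((hU.primeIdealOf ⟨z, hz⟩).isPrime.mem_or_mem (hc ▸ Ideal.zero_mem _)).resolve_left fun h' =>
    c.2 ((AssLib.primeIdealOf_le_iff hU hx hz).2 h h')

theorem exists_max_below : ∃ (z : W) (hz : z ∈ U), z ⤳ x ∧ (∀ z', z' ⤳ z → z' = z) ∧
    (hU.primeIdealOf ⟨z, hz⟩).asIdeal = (⊥ : Ideal (W.presheaf.stalk x)).comap (W.presheaf.germ U x hx).hom := by
  haveI := Ideal.isPrime_bot (α := W.presheaf.stalk x)
  obtain ⟨z, hz, he⟩ := QCoh.exists_point hU
    ⟨(⊥ : Ideal (W.presheaf.stalk x)).comap (W.presheaf.germ U x hx).hom, Ideal.IsPrime.comap _⟩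
  have he' := congrArg PrimeSpectrum.asIdeal he
  have hzx : z ⤳ x := (AssLib.primeIdealOf_le_iff hU hx hz).1 <| by
    rw [he', ← AssLib.comap_maximalIdeal_stalk hU hx]
    exact Ideal.comap_mono bot_le
  refine ⟨z, hz, hzx, fun z' hz' => ?_, he'⟩
  have hz'U : z' ∈ U := hz'.mem_open U.2 hz
  exact (hz'.antisymm ((AssLib.primeIdealOf_le_iff hU hz'U hz).1
    (he'.le.trans (ker_germ_le hU hx hz'U (hz'.trans hzx))))).eq

theorem maximalIdeal_eq_bot_of_max (h : ∀ z, z ⤳ x → z = x) : maximalIdeal (W.presheaf.stalk x) = ⊥ := by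
  obtain ⟨U, hU, hx, -⟩ := exists_isAffineOpen_mem_and_subset (U := (⊤ : W.Opens)) (x := x) trivial
  obtain ⟨z, hz, hzx, -, he⟩ := exists_max_below hU hx
  obtain rfl := h z hzx
  letI := QCoh.stalkAlg (X := W) hx
  haveI := QCoh.isLocalization_stalk' hU hx
  haveI := Ideal.isPrime_bot (α := W.presheaf.stalk z)
  rw [← AssLib.comap_maximalIdeal_stalk hU hx] at he
  calc maximalIdeal (W.presheaf.stalk z)
      = ((maximalIdeal (W.presheaf.stalk z)).comap (W.presheaf.germ U z hx).hom).map (algebraMap Γ(W, U) (W.presheaf.stalk z)) :=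
        (IsLocalization.map_under (hU.primeIdealOf ⟨z, hx⟩).asIdeal.primeCompl _ _).symm
    _ = ((⊥ : Ideal (W.presheaf.stalk z)).comap (W.presheaf.germ U z hx).hom).map (algebraMap Γ(W, U) (W.presheaf.stalk z)) := by
        rw [he]
    _ = ⊥ := IsLocalization.map_under (hU.primeIdealOf ⟨z, hx⟩).asIdeal.primeCompl _ _

theorem max_of_maximalIdeal_eq_bot (h : maximalIdeal (W.presheaf.stalk x) = ⊥) : ∀ z, z ⤳ x → z = x := by
  obtain ⟨U, hU, hx, -⟩ := exists_isAffineOpen_mem_and_subset (U := (⊤ : W.Opens)) (x := x) trivial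
  intro z hz
  have hzU : z ∈ U := hz.mem_open U.2 hx
  refine (hz.antisymm ((AssLib.primeIdealOf_le_iff hU hzU hx).1 ?_)).eq
  rw [← AssLib.comap_maximalIdeal_stalk hU hx, h]
  exact ker_germ_le hU hx hzU hz

end Local

variable {W : Scheme.{u}} [IsLocallyNoetherian W] {M : W.Modules} (hM : Coh.IsQCoh M)
  (hd : ∀ x : W, IsDomain (W.presheaf.stalk x))
include hM hd

theorem torsion_eq_top_iff :
    (∀ x : W, Submodule.torsion (W.presheaf.stalk x) (M.presheaf.stalk x) = ⊤) ↔
      ∀ t : W, (∀ z, z ⤳ t → z = t) → t ∉ CohB1.support M := by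
  constructor
  · intro h t ht hts
    haveI := hd t
    have hbot := maximalIdeal_eq_bot_of_max ht
    refine hts ⟨fun a b => ?_⟩
    have key : ∀ m : M.presheaf.stalk t, m = 0 := fun m => by
      obtain ⟨⟨c, hc⟩, hcm⟩ := (Submodule.mem_torsion_iff m).1 (h t ▸ Submodule.mem_top)
      have hu : IsUnit c := by
        by_contra hn
        have : c ∈ maximalIdeal (W.presheaf.stalk t) := (IsLocalRing.mem_maximalIdeal _).2 hn
        rw [hbot, Ideal.mem_bot] at this
        exact nonZeroDivisors.ne_zero hc this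
      exact hu.smul_eq_zero.1 hcm
    rw [key a, key b]
  · intro h x
    haveI := hd x
    obtain ⟨U, hU, hx, -⟩ := exists_isAffineOpen_mem_and_subset (U := (⊤ : W.Opens)) (x := x) trivial
    obtain ⟨z, hz, hzx, hzmax, he⟩ := exists_max_below hU hx
    letI := QCoh.stalkAlg (X := W) hx
    letI := QCoh.stalkModule M hx
    haveI := QCoh.isScalarTower_stalk M hx
    haveI := QCoh.isLocalization_stalk' hU hx
    haveI := QCoh.isLocalizedModule_germLin hM hU hx
    haveI hsub : Subsingleton (M.presheaf.stalk z) := not_not.1 (h z hzmax)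
    letI := QCoh.stalkModule M hz
    haveI := QCoh.isLocalizedModule_germLin hM hU hz
    refine Submodule.eq_top_iff'.2 fun m => (Submodule.mem_torsion_iff m).2 ?_
    obtain ⟨⟨n, u⟩, hn⟩ := IsLocalizedModule.surj (hU.primeIdealOf ⟨x, hx⟩).asIdeal.primeCompl (QCoh.germLin M hx) m
    obtain ⟨a, ha⟩ := (IsLocalizedModule.eq_zero_iff (hU.primeIdealOf ⟨z, hz⟩).asIdeal.primeCompl
      (QCoh.germLin M hz) (m := n)).1 (Subsingleton.elim _ _)
    have hane : algebraMap Γ(W, U) (W.presheaf.stalk x) (a : Γ(W, U)) ≠ 0 := fun h0 => a.2 (he.ge h0)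
    refine ⟨⟨_, mem_nonZeroDivisors_of_ne_zero hane⟩, ?_⟩
    show algebraMap Γ(W, U) (W.presheaf.stalk x) (a : Γ(W, U)) • m = 0
    rw [algebraMap_smul]
    have hu := IsLocalization.map_units (W.presheaf.stalk x) u
    refine hu.smul_eq_zero.1 ?_
    rw [algebraMap_smul, smul_comm, show (u : Γ(W, U)) • m = QCoh.germLin M hx n from hn, ← map_smul,
      show (a : Γ(W, U)) • n = 0 from ha, map_zero]

theorem torsion_eq_bot_iff :
    (∀ x : W, Submodule.torsion (W.presheaf.stalk x) (M.presheaf.stalk x) = ⊥) ↔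
      ∀ t ∈ AssSch.Ass M, ∀ z, z ⤳ t → z = t := by
  constructor
  · intro h t ht
    haveI := hd t
    refine max_of_maximalIdeal_eq_bot ?_
    by_contra hne
    rw [AssLib.mem_ass_def] at ht
    obtain ⟨hP, m, hm⟩ := isAssociatedPrime_iff.1 ht
    obtain ⟨a, ha, ha0⟩ := Submodule.exists_mem_ne_zero_of_ne_bot hne
    rw [hm, Submodule.mem_colon_singleton, Submodule.mem_bot] at ha
    have hm0 : m ∈ Submodule.torsion (W.presheaf.stalk t) (M.presheaf.stalk t) :=
      (Submodule.mem_torsion_iff m).2 ⟨⟨a, mem_nonZeroDivisors_of_ne_zero ha0⟩, ha⟩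
    rw [h t, Submodule.mem_bot] at hm0
    refine hP.ne_top ?_
    rw [hm, hm0]
    exact Ideal.eq_top_iff_one _ |>.2 (by rw [Submodule.mem_colon_singleton, smul_zero]; exact Submodule.zero_mem _)
  · intro h x
    haveI := hd x
    rw [eq_bot_iff]
    intro m hm
    obtain ⟨⟨a, ha⟩, ham⟩ := (Submodule.mem_torsion_iff m).1 hm
    by_contra hm0
    obtain ⟨U, hU, hx, -⟩ := exists_isAffineOpen_mem_and_subset (U := (⊤ : W.Opens)) (x := x) trivial
    haveI : IsNoetherianRing Γ(W, U) := IsLocallyNoetherian.component_noetherian ⟨U, hU⟩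
    letI := QCoh.stalkAlg (X := W) hx
    letI := QCoh.stalkModule M hx
    haveI := QCoh.isScalarTower_stalk M hx
    haveI := QCoh.isLocalization_stalk' hU hx
    haveI := QCoh.isLocalizedModule_germLin hM hU hx
    obtain ⟨P, hP, hle⟩ := exists_le_isAssociatedPrime_of_isNoetherianRing (R := W.presheaf.stalk x) m
      fun e => hm0 (by rw [e]; exact Submodule.zero_mem _)
    have haP : a ∈ P := hle (by rw [Submodule.mem_colon_singleton]; exact ham)
    have hPN : P.comap (algebraMap Γ(W, U) (W.presheaf.stalk x)) ∈ associatedPrimes Γ(W, U) Γ(M, U) := by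
      have h1 : P ∈ associatedPrimes (W.presheaf.stalk x) (M.presheaf.stalk x) := hP
      rw [← Module.associatedPrimes.preimage_comap_associatedPrimes_eq_associatedPrimes_of_isLocalizedModule
        (hU.primeIdealOf ⟨x, hx⟩).asIdeal.primeCompl (W.presheaf.stalk x) (QCoh.germLin M hx)] at h1
      exact h1
    obtain ⟨z, hz, he⟩ := QCoh.exists_point hU ⟨_, hPN.isPrime⟩
    have hzA : z ∈ AssSch.Ass M := (AssLib.mem_ass_iff hM hU hz).2 (by rw [he]; exact hPN)
    obtain ⟨z₀, hz₀, -, -, he₀⟩ := exists_max_below hU hx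
    have hle' : z₀ ⤳ z := (AssLib.primeIdealOf_le_iff hU hz hz₀).1 <| by
      rw [he₀, he]
      exact Ideal.comap_mono bot_le
    obtain rfl := h z hzA z₀ hle'
    have hc : P.comap (algebraMap Γ(W, U) (W.presheaf.stalk x)) =
        (⊥ : Ideal (W.presheaf.stalk x)).comap (algebraMap Γ(W, U) (W.presheaf.stalk x)) :=
      (congrArg PrimeSpectrum.asIdeal he).symm.trans he₀
    have hP0 : P = ⊥ := by
      rw [← IsLocalization.map_under (hU.primeIdealOf ⟨x, hx⟩).asIdeal.primeCompl (W.presheaf.stalk x) P,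
        ← IsLocalization.map_under (hU.primeIdealOf ⟨x, hx⟩).asIdeal.primeCompl (W.presheaf.stalk x) ⊥]
      exact congrArg (Ideal.map _) hc
    rw [hP0, Ideal.mem_bot] at haP
    exact nonZeroDivisors.ne_zero ha haP

end Groth.Agent.GenRdCons
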