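import Groth.Agent.GenRdCons.Torsion

/-!
# Constructibility of the loci of torsion and torsion-free fibre modules
-/

set_option autoImplicit false
set_option linter.style.haveILetI false
set_option linter.unusedSectionVars false
set_option linter.deprecated false
set_option backward.isDefEq.respectTransparency false
set_option backward.isDefEq.respectTransparency.types false

universe u

open CategoryTheory AlgebraicGeometry Topology
open Groth.Agent.AssDimLoci (Gen fdepth Fib)

namespace Groth.Agent.GenRdCons

variable {X S : Scheme.{u}} (f : X ⟶ S) [LocallyOfFinitePresentation f]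

/-- Being maximal in the fibre. -/
theorem max_fibre_iff (s : S) (w : ↥(f.fiber s)) :
    (∀ z, z ⤳ w → z = w) ↔ f.fiberι s w ∉ B f Set.univ (FibDim.rd f (f.fiberι s w) + 1) := by
  constructor
  · rintro h ⟨t, -, hg, hm⟩
    obtain ⟨z, rfl⟩ := AssDimLoci.exists_fiberι_eq f hg
    rw [h z ((AssDimLoci.gen_fiberι_iff f s w z).1 hg)] at hm
    omega
  · intro h z hz
    by_contra hne
    have hg := (AssDimLoci.gen_fiberι_iff f s w z).2 hz
    exact h ⟨_, trivial, hg, FibDim.rd_lt f hg.1 (fun e => hne ((f.fiberι s).isEmbedding.injective e)) hg.2⟩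

variable [QuasiCompact f] (F : X.Modules) (hF : CohB1.IsFP F)
  (hint : ∀ (s : S) (x : ↥(f.fiber s)), IsDomain ((f.fiber s).presheaf.stalk x))
include hF hint

theorem isLocallyConstructible_torsion :
    IsLocallyConstructible {s : S | ∀ x : ↥(f.fiber s),
      Submodule.torsion ((f.fiber s).presheaf.stalk x) ((Fib f F s).presheaf.stalk x) = ⊤} := by
  let E : ℕ → Set X := fun m => CohB1.support F ∩ (B f Set.univ (m + 1))ᶜ
  have hE : ∀ m, IsLocallyConstructible (E m) := fun m =>
    (isLocallyConstructible_support hF).inter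
      (isLocallyConstructible_compl' (isLocallyConstructible_B f IsLocallyConstructible.univ (m + 1)))
  convert isLocallyConstructible_compl'
    (f.isLocallyConstructible_image (isLocallyConstructible_iUnion_B f E hE)) using 1
  ext s
  haveI := AssDimLoci.isLocallyNoetherian_fiber f s
  rw [Set.mem_ofPred_eq, torsion_eq_top_iff (AssDimLoci.isQCoh_fib f F hF s) (hint s), Set.mem_compl_iff]
  simp only [AssDimLoci.support_fib f F hF s, Set.mem_preimage]
  constructor
  · rintro h ⟨x, ⟨m, t, ⟨hts, htB⟩, hg, hm⟩, rfl⟩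
    obtain ⟨w, rfl⟩ : t ∈ Set.range (f.fiberι (f x)) := by rw [Scheme.Hom.range_fiberι]; exact hg.2
    refine h w ((max_fibre_iff f (f x) w).2 fun ⟨t', _, hg', hm'⟩ => htB ⟨t', trivial, hg', ?_⟩) hts
    omega
  · intro h w hmax hts
    exact h ⟨_, ⟨_, _, ⟨hts, (max_fibre_iff f s w).1 hmax⟩, Gen.refl f _, le_rfl⟩, AssDimLoci.apply_fiberι f s w⟩

theorem isLocallyConstructible_torsionFree :
    IsLocallyConstructible {s : S | ∀ x : ↥(f.fiber s),
      Submodule.torsion ((f.fiber s).presheaf.stalk x) ((Fib f F s).presheaf.stalk x) = ⊥} := by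
  convert isLocallyConstructible_compl' (isLocallyConstructible_image_genA f F hF
    (P := fun d => B f Set.univ (d + 1)) fun d => isLocallyConstructible_B f IsLocallyConstructible.univ _) using 1
  ext s
  haveI := AssDimLoci.isLocallyNoetherian_fiber f s
  rw [Set.mem_ofPred_eq, torsion_eq_bot_iff (AssDimLoci.isQCoh_fib f F hF s) (hint s), Set.mem_compl_iff,
    mem_image_genA_fib_iff f F hF]
  exact ⟨fun h ⟨z, hz, hP⟩ => (max_fibre_iff f s z).1 (h z hz) hP,
    fun h z hz => (max_fibre_iff f s z).2 fun hP => h ⟨z, hz, hP⟩⟩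

end Groth.Agent.GenRdCons
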